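import Groth.Agent.L15.HilbertBurch
import Groth.Agent.S11449
import Groth.Agent.L04.CMLoc
import Groth.Agent.L04.LC.Codim
import Mathlib.RingTheory.RegularLocalRing.Defs
import Mathlib.RingTheory.TensorProduct.Maps
import Mathlib.RingTheory.HopkinsLevitzki
import Mathlib.LinearAlgebra.Dimension.Free

/-!
# Lifting flat families of ideals of finite colength in a regular local ring of dimension two

By Hilbert-Burch such an ideal is given by the minors of a matrix, and any lift of the matrix gives a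
flat lift of the family over an Artinian thickening.
-/

set_option autoImplicit false
set_option linter.style.haveILetI false
set_option backward.isDefEq.respectTransparency false
set_option backward.isDefEq.respectTransparency.types false

universe u

open scoped TensorProduct
open IsLocalRing

noncomputable section

namespace Groth.L11.Fogarty

theorem dim_artinian {T : Type u} [CommRing T] [Nontrivial T] [IsArtinianRing T] : ringKrullDim T = 0 :=
  le_antisymm (Ring.krullDimLE_iff.1 inferInstance) ringKrullDim_nonneg_of_nontrivial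

theorem isCohenMacaulay_of_artinian (T : Type u) [CommRing T] [IsLocalRing T] [IsArtinianRing T] :
    LocCoh.IsCohenMacaulayLocalRing T where
  supportDim_eq_depth := by
    have h0 : Module.supportDim T T = 0 := by
      rw [Module.supportDim_self_eq_ringKrullDim, Groth.L11.Fogarty.dim_artinian]
    have h1 := Groth.L04.depth_le_supportDim (R := T) (M := T)
    rw [h0] at h1 ⊢
    exact le_antisymm (WithBot.coe_le_coe.2 bot_le) h1

/-- An ideal of finite colength in a regular local ring of dimension two contains a regular pair. -/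
theorem exists_pair (R : Type u) [CommRing R] [IsRegularLocalRing R] (hdim : ringKrullDim R = 2) (a : Ideal R)
    [IsArtinianRing (R ⧸ a)] (ha : a ≠ ⊤) :
    ∃ x ∈ a, ∃ y ∈ a, (∀ b, x * b = 0 → b = 0) ∧ ∀ b, y * b ∈ Ideal.span {x} → b ∈ Ideal.span {x} := by
  haveI : IsRegularRing R := Groth.L04.LC.isRegularRing_of_regularLocal R
  have hprime : ∀ p : Ideal R, p.IsPrime → a ≤ p → p = maximalIdeal R := fun p hp hap => by
    haveI := hp
    haveI : (p.map (Ideal.Quotient.mk a)).IsPrime :=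
      Ideal.map_isPrime_of_surjective Ideal.Quotient.mk_surjective (by rwa [Ideal.mk_ker])
    have hmax : (p.map (Ideal.Quotient.mk a)).IsMaximal := inferInstance
    refine IsLocalRing.eq_maximalIdeal ?_
    have e : (p.map (Ideal.Quotient.mk a)).comap (Ideal.Quotient.mk a) = p := by
      rw [Ideal.comap_map_of_surjective _ Ideal.Quotient.mk_surjective, ← RingHom.ker_eq_comap_bot, Ideal.mk_ker,
        sup_eq_left.2 hap]
    rw [← e]
    exact Ideal.comap_isMaximal_of_surjective _ Ideal.Quotient.mk_surjective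
  have h2 : (2 : ℕ∞) ≤ LocCoh.idealDepth a R := by
    rw [Groth.L04.isCohenMacaulayRing_iff_height.1 Groth.L04.isCohenMacaulayRing_of_regularRing a ha,
      Ideal.height_eq_inf_minimalPrimes]
    refine le_iInf₂ fun p hp => ?_
    rw [hprime p hp.1.1 hp.1.2]
    have h := IsLocalRing.maximalIdeal_height_eq_ringKrullDim (R := R)
    rw [hdim] at h
    exact le_of_eq (WithBot.coe_injective (h.trans rfl)).symm
  have hne : a • (⊤ : Submodule R R) ≠ ⊤ := by rwa [smul_eq_mul, Ideal.mul_top]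
  obtain ⟨rs, hlen, hreg, hmem⟩ := Groth.L04.exists_of_le_idealDepth hne (n := 2) (by exact_mod_cast h2)
  match rs, hlen with
  | [x, y], _ =>
    rw [RingTheory.Sequence.isWeaklyRegular_cons_iff, RingTheory.Sequence.isWeaklyRegular_singleton_iff] at hreg
    refine ⟨x, hmem x (by simp), y, hmem y (by simp), fun a ha => hreg.1.right_eq_zero_of_smul ha, fun a ha => ?_⟩
    have h1 : y • (Submodule.Quotient.mk a : QuotSMulTop x R) = 0 := by
      rw [← Submodule.Quotient.mk_smul, Submodule.Quotient.mk_eq_zero, ← Submodule.ideal_span_singleton_smul,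
        smul_eq_mul, smul_eq_mul, Ideal.mul_top]
      exact ha
    have h2 := hreg.2.right_eq_zero_of_smul h1
    rw [Submodule.Quotient.mk_eq_zero, ← Submodule.ideal_span_singleton_smul, smul_eq_mul, Ideal.mul_top] at h2
    exact h2

/-- Hilbert-Burch for an ideal of finite colength. -/
theorem exists_matrix (R : Type u) [CommRing R] [IsRegularLocalRing R] (hdim : ringKrullDim R = 2) (a : Ideal R)
    [IsArtinianRing (R ⧸ a)] (ha : a ≠ ⊤) :
    ∃ (r : ℕ) (φ : Matrix (Fin (r + 1)) (Fin r) R),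
      Ideal.span (Set.range (fun i : Fin (r + 1) => (-1 : R) ^ (i : ℕ) * (φ.submatrix i.succAbove id).det)) = a ∧
      Function.Injective φ.mulVecLin ∧
      LinearMap.range φ.mulVecLin = LinearMap.ker (Fintype.linearCombination R
        (fun i : Fin (r + 1) => (-1 : R) ^ (i : ℕ) * (φ.submatrix i.succAbove id).det)) := by
  haveI : Nontrivial (R ⧸ a) := Ideal.Quotient.nontrivial_iff.2 ha
  haveI : IsLocalRing (R ⧸ a) := IsLocalRing.of_surjective' (Ideal.Quotient.mk a) Ideal.Quotient.mk_surjective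
  haveI := isCohenMacaulay_of_artinian (R ⧸ a)
  obtain ⟨r, φ, h1, -, h2, h3⟩ := Groth.Agent.S11449.result R a (by rw [dim_artinian, zero_add, hdim])
  exact ⟨r, φ, h1, h2, h3⟩

variable {k : Type u} [Field k]

/-- The closed fibre of `C ⊗ R` over a point with residue field `k`. -/
theorem bijective_fibre {C₀ A₀ R : Type u} [CommRing C₀] [IsLocalRing C₀] [CommRing A₀] [Algebra C₀ A₀]
    [CommRing R] [Algebra k R] [Algebra k C₀] (π : C₀ →ₐ[k] k) (inR : R →+* A₀) (ev : A₀ →+* R)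
    (hev : ∀ r, ev (inR r) = r) (hc : ∀ c, ev (algebraMap C₀ A₀ c) = algebraMap k R (π c))
    (hgen : ∀ a, a - inR (ev a) ∈ (maximalIdeal C₀).map (algebraMap C₀ A₀)) :
    Function.Bijective ((Ideal.Quotient.mk ((maximalIdeal C₀).map (algebraMap C₀ A₀))).comp inR) := by
  have hker : RingHom.ker π = maximalIdeal C₀ :=
    IsLocalRing.eq_maximalIdeal (RingHom.ker_isMaximal_of_surjective π fun c => ⟨algebraMap k C₀ c, π.commutes c⟩)
  refine ⟨(injective_iff_map_eq_zero _).2 fun r hr => ?_, fun z => ?_⟩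
  · have h1 : (maximalIdeal C₀).map (algebraMap C₀ A₀) ≤ RingHom.ker ev := Ideal.map_le_iff_le_comap.2 fun c hc' => by
      rw [Ideal.mem_comap, RingHom.mem_ker, hc, RingHom.mem_ker.1 (hker.ge hc'), map_zero]
    have h2 := h1 (Ideal.Quotient.eq_zero_iff_mem.1 hr)
    rwa [RingHom.mem_ker, hev] at h2
  · obtain ⟨a, rfl⟩ := Ideal.Quotient.mk_surjective z
    exact ⟨ev a, (Ideal.Quotient.eq.2 (hgen a)).symm⟩

/-- A flat family of ideals of finite colength is determinantal. -/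
theorem exists_matrix_lift {C₀ A₀ : Type u} [CommRing C₀] [IsLocalRing C₀] [IsArtinianRing C₀] [CommRing A₀]
    [Algebra C₀ A₀] [Module.Flat C₀ A₀]
    (hreg : IsRegularLocalRing (A₀ ⧸ (maximalIdeal C₀).map (algebraMap C₀ A₀)))
    (hdim : ringKrullDim (A₀ ⧸ (maximalIdeal C₀).map (algebraMap C₀ A₀)) = 2)
    (I : Ideal A₀) [Module.Flat C₀ (A₀ ⧸ I)] (hI : I ≠ ⊤) (hart : IsArtinianRing (A₀ ⧸ I)) :
    ∃ (r : ℕ) (ψ : Matrix (Fin (r + 1)) (Fin r) A₀),
      Ideal.span (Set.range (fun i : Fin (r + 1) => (-1 : A₀) ^ (i : ℕ) * (ψ.submatrix i.succAbove id).det)) = I ∧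
      Function.Injective ψ.mulVecLin ∧
      LinearMap.range ψ.mulVecLin = LinearMap.ker (Fintype.linearCombination A₀
        (fun i : Fin (r + 1) => (-1 : A₀) ^ (i : ℕ) * (ψ.submatrix i.succAbove id).det)) := by
  classical
  haveI := hreg
  haveI := hart
  set m₀ := (maximalIdeal C₀).map (algebraMap C₀ A₀) with hm₀def
  have hm₀ : m₀ ≤ Ideal.jacobson ⊥ := by
    rw [Ideal.jacobson_bot]
    refine le_trans ?_ (nilradical_le_jacobson _)
    obtain ⟨N, hN⟩ := IsArtinianRing.isNilpotent_jacobson_bot (R := C₀)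
    rw [IsLocalRing.jacobson_eq_maximalIdeal ⊥ bot_ne_top, Ideal.zero_eq_bot] at hN
    intro z hz
    refine ⟨N, ?_⟩
    have h : z ^ N ∈ m₀ ^ N := Ideal.pow_mem_pow hz N
    rw [show m₀ ^ N = ⊥ by rw [hm₀def, ← Ideal.map_pow, hN, Ideal.map_bot]] at h
    exact h
  let a₀ := I.map (Ideal.Quotient.mk m₀)
  have ha₀ : a₀ ≠ ⊤ := fun h => by
    have h1 := congrArg (Ideal.comap (Ideal.Quotient.mk m₀)) h
    rw [Ideal.comap_map_of_surjective _ Ideal.Quotient.mk_surjective, ← RingHom.ker_eq_comap_bot, Ideal.mk_ker,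
      Ideal.comap_top] at h1
    obtain ⟨M, hM, hle⟩ := Ideal.exists_le_maximal _ hI
    exact hM.ne_top (top_le_iff.1 (h1 ▸ sup_le hle (hm₀.trans (sInf_le ⟨bot_le, hM⟩))))
  haveI : IsArtinianRing ((A₀ ⧸ m₀) ⧸ a₀) := by
    let h : A₀ ⧸ I →+* (A₀ ⧸ m₀) ⧸ a₀ := Ideal.Quotient.lift I
      ((Ideal.Quotient.mk a₀).comp (Ideal.Quotient.mk m₀))
      (fun z hz => Ideal.Quotient.eq_zero_iff_mem.2 (Ideal.mem_map_of_mem _ hz))
    refine Function.Surjective.isArtinianRing (f := h) (fun z => ?_)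
    obtain ⟨z, rfl⟩ := Ideal.Quotient.mk_surjective z
    obtain ⟨z, rfl⟩ := Ideal.Quotient.mk_surjective z
    exact ⟨Ideal.Quotient.mk I z, rfl⟩
  obtain ⟨r, φ₀, hspan, hinj₀, hrange₀⟩ := exists_matrix (A₀ ⧸ m₀) hdim a₀ ha₀
  obtain ⟨x₀, hx₀, y₀, hy₀, hx, hy⟩ := exists_pair (A₀ ⧸ m₀) hdim a₀ ha₀
  obtain ⟨x, hxI, rfl⟩ := (Ideal.mem_map_iff_of_surjective _ Ideal.Quotient.mk_surjective).mp hx₀
  obtain ⟨y, hyI, rfl⟩ := (Ideal.mem_map_iff_of_surjective _ Ideal.Quotient.mk_surjective).mp hy₀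
  have hmem : ∀ b, Ideal.Quotient.mk m₀ b ∈ Ideal.span {Ideal.Quotient.mk m₀ x} ↔ b ∈ Ideal.span {x} ⊔ m₀ := fun b => by
    rw [← Set.image_singleton, ← Ideal.map_span, ← Ideal.mem_comap,
      Ideal.comap_map_of_surjective _ Ideal.Quotient.mk_surjective, ← RingHom.ker_eq_comap_bot, Ideal.mk_ker]
  letI := Ideal.Quotient.field (maximalIdeal C₀)
  haveI : Module.Flat (C₀ ⧸ maximalIdeal C₀)
      ((A₀ ⧸ m₀) ⧸ Ideal.span (Set.range fun i : Fin (r + 1) =>
        (-1 : A₀ ⧸ m₀) ^ (i : ℕ) * (φ₀.submatrix i.succAbove id).det)) := inferInstance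
  obtain ⟨ψ, -, h1, h2, h3⟩ := Groth.L15.HB.exists_lift (C := C₀) (A := A₀)
    (J := maximalIdeal C₀) (IsLocalRing.maximalIdeal.isMaximal _).ne_top φ₀ _
    (fun i => rfl) hinj₀ hrange₀ I hspan.symm x y hxI hyI
    (fun b hb => by
      rw [← Ideal.Quotient.eq_zero_iff_mem, map_mul] at hb
      exact Ideal.Quotient.eq_zero_iff_mem.mp (hx _ hb))
    (fun b hb => by
      rw [← hmem] at hb ⊢
      rw [map_mul] at hb
      exact hy _ hb)
  exact ⟨r, ψ, h1, h2, h3⟩

variable {C R : Type u} [CommRing C] [IsLocalRing C] [IsArtinianRing C] [Algebra k C]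
  [CommRing R] [Algebra k R]

/-- Flat families of ideals of finite colength lift over Artinian thickenings. -/
theorem exists_lift_local [IsRegularLocalRing R] (hdim : ringKrullDim R = 2) (π : C →ₐ[k] k) (J : Ideal C)
    (hJ : J ≠ ⊤) (I₀ : Ideal (C ⊗[k] R)) (hI₀ : I₀ ≠ ⊤) (hT : J.map (algebraMap C (C ⊗[k] R)) ≤ I₀)
    (hflat : Module.Flat (C ⧸ J) (((C ⊗[k] R) ⧸ J.map (algebraMap C (C ⊗[k] R))) ⧸
      I₀.map (Ideal.Quotient.mk (J.map (algebraMap C (C ⊗[k] R))))))
    (hart₀ : IsArtinianRing ((C ⊗[k] R) ⧸ I₀)) :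
    ∃ I' : Ideal (C ⊗[k] R), Module.Flat C ((C ⊗[k] R) ⧸ I') ∧
      I' ⊔ J.map (algebraMap C (C ⊗[k] R)) = I₀ := by
  classical
  let T := J.map (algebraMap C (C ⊗[k] R))
  let mkT : (C ⊗[k] R) →+* (C ⊗[k] R) ⧸ T := Ideal.Quotient.mk T
  haveI : Nontrivial (C ⧸ J) := Ideal.Quotient.nontrivial_iff.2 hJ
  haveI : IsLocalRing (C ⧸ J) := IsLocalRing.of_surjective' _ Ideal.Quotient.mk_surjective
  haveI : IsArtinianRing (C ⧸ J) := inferInstance
  haveI : Module.Flat C (C ⊗[k] R) := inferInstance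
  haveI : Module.Flat (C ⧸ J) ((C ⊗[k] R) ⧸ T) := Groth.L15.HB.flat_quot (A := C ⊗[k] R) J
  have hkerπ : RingHom.ker π = maximalIdeal C :=
    IsLocalRing.eq_maximalIdeal (RingHom.ker_isMaximal_of_surjective π fun c => ⟨algebraMap k C c, π.commutes c⟩)
  let π₀ : (C ⧸ J) →ₐ[k] k := Ideal.Quotient.liftₐ J π fun c hc => RingHom.mem_ker.1
    (hkerπ.ge (le_maximalIdeal hJ hc))
  let evR : C ⊗[k] R →ₐ[k] R := Algebra.TensorProduct.lift ((Algebra.ofId k R).comp π) (AlgHom.id k R)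
    (fun _ _ => Commute.all _ _)
  have hTker : ∀ t ∈ T, evR t = 0 := fun t ht => by
    induction ht using Submodule.span_induction with
    | mem y hy =>
      obtain ⟨c, hc, rfl⟩ := hy
      have : π c = 0 := RingHom.mem_ker.1 (hkerπ.ge (le_maximalIdeal hJ hc))
      simp [evR, this]
    | zero => exact map_zero _
    | add a b _ _ ha hb => rw [map_add, ha, hb, add_zero]
    | smul a b _ hb => rw [smul_eq_mul, map_mul, hb, mul_zero]
  let ev₀ : (C ⊗[k] R) ⧸ T →+* R := Ideal.Quotient.lift T evR.toRingHom hTker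
  let inR : R →+* (C ⊗[k] R) ⧸ T := mkT.comp (Algebra.TensorProduct.includeRight : R →ₐ[k] C ⊗[k] R).toRingHom
  have hev : ∀ r, ev₀ (inR r) = r := fun r => by
    show evR ((1 : C) ⊗ₜ[k] r) = r
    simp [evR]
  have hbij := bijective_fibre (C₀ := C ⧸ J) (A₀ := (C ⊗[k] R) ⧸ T) π₀ inR ev₀ hev
    (fun c => by
      obtain ⟨c, rfl⟩ := Ideal.Quotient.mk_surjective c
      show evR (c ⊗ₜ[k] (1 : R)) = algebraMap k R (π c)
      simp [evR])
    (fun z => by
      obtain ⟨z, rfl⟩ := Ideal.Quotient.mk_surjective z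
      induction z using TensorProduct.induction_on with
      | zero => simp
      | tmul c r =>
        show mkT (c ⊗ₜ[k] r) - mkT ((1 : C) ⊗ₜ[k] evR (c ⊗ₜ[k] r)) ∈ _
        have e : c ⊗ₜ[k] r - (1 : C) ⊗ₜ[k] evR (c ⊗ₜ[k] r) =
            algebraMap C (C ⊗[k] R) (c - algebraMap k C (π c)) * ((1 : C) ⊗ₜ[k] r) := by
          have e1 : evR (c ⊗ₜ[k] r) = π c • r := by simp [evR, Algebra.smul_def]
          have e2 : algebraMap C (C ⊗[k] R) (c - algebraMap k C (π c)) * ((1 : C) ⊗ₜ[k] r) =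
              (c - algebraMap k C (π c)) ⊗ₜ[k] r := by simp
          rw [e1, e2, TensorProduct.sub_tmul, Algebra.algebraMap_eq_smul_one, TensorProduct.smul_tmul]
        rw [← map_sub, e, map_mul]
        refine Ideal.mul_mem_right _ _ ?_
        have h3 : Ideal.Quotient.mk J (c - algebraMap k C (π c)) ∈ maximalIdeal (C ⧸ J) := by
          haveI := IsLocalHom.of_surjective (Ideal.Quotient.mk J) Ideal.Quotient.mk_surjective
          refine map_nonunit (Ideal.Quotient.mk J) _ ?_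
          rw [← hkerπ, RingHom.mem_ker, map_sub, AlgHom.commutes]
          exact sub_self _
        exact Ideal.mem_map_of_mem (algebraMap (C ⧸ J) ((C ⊗[k] R) ⧸ T)) h3
      | add u v hu hv =>
        rw [map_add, map_add, map_add, add_sub_add_comm]
        exact add_mem hu hv)
  let m₀ := (maximalIdeal (C ⧸ J)).map (algebraMap (C ⧸ J) ((C ⊗[k] R) ⧸ T))
  let e : R ≃+* ((C ⊗[k] R) ⧸ T) ⧸ m₀ := RingEquiv.ofBijective _ hbij
  haveI : IsRegularLocalRing (((C ⊗[k] R) ⧸ T) ⧸ m₀) := IsRegularLocalRing.of_ringEquiv e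
  have hdim₀ : ringKrullDim (((C ⊗[k] R) ⧸ T) ⧸ m₀) = 2 := by rw [← ringKrullDim_eq_of_ringEquiv e, hdim]
  have hI₀T : I₀.map mkT ≠ ⊤ := fun h => hI₀ (by
    have h1 := congrArg (Ideal.comap mkT) h
    rwa [Ideal.comap_map_of_surjective _ Ideal.Quotient.mk_surjective, ← RingHom.ker_eq_comap_bot, Ideal.mk_ker,
      sup_eq_left.2 hT, Ideal.comap_top] at h1)
  haveI := hflat
  have hart₁ : IsArtinianRing (((C ⊗[k] R) ⧸ T) ⧸ I₀.map mkT) := by
    haveI := hart₀
    let h : (C ⊗[k] R) ⧸ I₀ →+* ((C ⊗[k] R) ⧸ T) ⧸ I₀.map mkT := Ideal.Quotient.lift I₀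
      ((Ideal.Quotient.mk (I₀.map mkT)).comp mkT)
      (fun z hz => Ideal.Quotient.eq_zero_iff_mem.2 (Ideal.mem_map_of_mem _ hz))
    refine Function.Surjective.isArtinianRing (f := h) (fun z => ?_)
    obtain ⟨z, rfl⟩ := Ideal.Quotient.mk_surjective z
    obtain ⟨z, rfl⟩ := Ideal.Quotient.mk_surjective z
    exact ⟨Ideal.Quotient.mk I₀ z, rfl⟩
  obtain ⟨r, ψ, hψspan, hψinj, hψrange⟩ := exists_matrix_lift (C₀ := C ⧸ J) (A₀ := (C ⊗[k] R) ⧸ T)
    inferInstance hdim₀ (I₀.map mkT) hI₀T hart₁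
  choose L hL using fun i j => Ideal.Quotient.mk_surjective (I := T) (ψ i j)
  let φ : Matrix (Fin (r + 1)) (Fin r) (C ⊗[k] R) := Matrix.of L
  have hφ : φ.map mkT = ψ := Matrix.ext fun i j => hL i j
  let g : Fin (r + 1) → C ⊗[k] R := fun i => (-1) ^ (i : ℕ) * (φ.submatrix i.succAbove id).det
  have hg : ∀ i, mkT (g i) = (-1) ^ (i : ℕ) * (ψ.submatrix i.succAbove id).det := fun i => by
    rw [← hφ]; exact Groth.L15.HB.map_minor mkT φ i
  haveI : Module.Flat (C ⧸ J) (((C ⊗[k] R) ⧸ T) ⧸ Ideal.span (Set.range fun i : Fin (r + 1) =>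
      (-1 : (C ⊗[k] R) ⧸ T) ^ (i : ℕ) * (ψ.submatrix i.succAbove id).det)) := by rw [hψspan]; exact hflat
  obtain ⟨-, -, hflat'⟩ := Groth.L15.HB.exact_of_mod (C := C) (A := C ⊗[k] R) hJ φ g
    (fun j => Groth.L15.HB.sum_minor_mul φ j) _ hg (by rw [hφ]; exact hψinj) (by rw [hφ]; exact hψrange)
  refine ⟨Ideal.span (Set.range g), hflat', ?_⟩
  have h1 : (Ideal.span (Set.range g)).map mkT = I₀.map mkT := by
    rw [← hψspan, Ideal.map_span, ← Set.range_comp]
    exact congrArg Ideal.span (congrArg Set.range (funext hg))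
  have h2 := congrArg (Ideal.comap mkT) h1
  rwa [Ideal.comap_map_of_surjective _ Ideal.Quotient.mk_surjective,
    Ideal.comap_map_of_surjective _ Ideal.Quotient.mk_surjective, ← RingHom.ker_eq_comap_bot, Ideal.mk_ker,
    sup_eq_left.2 hT] at h2

end Groth.L11.Fogarty
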