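import Groth.Agent.L11.HilbConn.Master
import Groth.Agent.L11.Fogarty.Local
import Mathlib.RingTheory.Localization.AtPrime.Basic
import Mathlib.RingTheory.Ideal.Quotient.Operations
import Mathlib.RingTheory.Jacobson.Ideal

/-!
# Lifting families of ideals of finite colength on a regular affine surface
-/

set_option autoImplicit false
set_option linter.style.haveILetI false
set_option backward.isDefEq.respectTransparency false
set_option backward.isDefEq.respectTransparency.types false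

universe u

open scoped TensorProduct
open IsLocalRing Groth.L11.HilbConn

noncomputable section

namespace Groth.L11.Fogarty

theorem exists_decomp {A : Type u} [CommRing A] (K : Ideal A) [IsArtinianRing (A ⧸ K)] :
    ∃ (ι : Type u) (_ : Fintype ι) (L : ι → Ideal A), Pairwise (fun i j => IsCoprime (L i) (L j)) ∧
      (⨅ i, L i) = K ∧ ∀ i, K ≤ L i ∧ ∃ P : Ideal A, P.IsMaximal ∧ L i ≤ P ∧
        ∀ M : Ideal A, M.IsMaximal → L i ≤ M → M = P := by
  classical
  let T := A ⧸ K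
  haveI : Fintype (MaximalSpectrum T) := Fintype.ofFinite _
  obtain ⟨N, hN⟩ := IsArtinianRing.isNilpotent_jacobson_bot (R := T)
  have hcop : Pairwise fun i j : MaximalSpectrum T => IsCoprime (i.asIdeal ^ (N + 1)) (j.asIdeal ^ (N + 1)) :=
    fun i j hij => IsCoprime.pow (Ideal.isCoprime_of_isMaximal fun e => hij (MaximalSpectrum.ext e))
  have hjac : (⨅ i : MaximalSpectrum T, i.asIdeal) ≤ (⊥ : Ideal T).jacobson := le_sInf fun M hM =>
    iInf_le (fun i : MaximalSpectrum T => i.asIdeal) ⟨M, hM.2⟩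
  have hbot : (⨅ i : MaximalSpectrum T, i.asIdeal ^ (N + 1)) = ⊥ := by
    have h1 := Ideal.prod_eq_iInf_of_pairwise_isCoprime (s := (Finset.univ : Finset (MaximalSpectrum T)))
      (J := fun i => i.asIdeal ^ (N + 1)) (fun i _ j _ hij => hcop hij)
    simp only [Finset.mem_univ, iInf_pos] at h1
    rw [← h1, Finset.prod_pow, eq_bot_iff]
    refine (Ideal.pow_right_mono (le_trans ?_ hjac) _).trans ?_
    · exact le_iInf fun i => Ideal.prod_le_inf.trans (Finset.inf_le (Finset.mem_univ i))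
    · rw [pow_succ, hN, Ideal.zero_eq_bot, Ideal.bot_mul]
  refine ⟨MaximalSpectrum T, inferInstance, fun i => (i.asIdeal ^ (N + 1)).comap (Ideal.Quotient.mk K),
    fun i j hij => ?_, ?_, fun i => ⟨fun a ha => ?_, i.asIdeal.comap (Ideal.Quotient.mk K), ?_, ?_, fun M hM hle => ?_⟩⟩
  · show IsCoprime (Ideal.comap _ _) (Ideal.comap _ _)
    rw [Ideal.isCoprime_iff_sup_eq, eq_top_iff]
    intro a _
    obtain ⟨x, hx, y, hy, hxy⟩ := Submodule.mem_sup.1
      ((Ideal.isCoprime_iff_sup_eq.1 (hcop hij)).ge (Submodule.mem_top : Ideal.Quotient.mk K a ∈ ⊤))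
    obtain ⟨x', rfl⟩ := Ideal.Quotient.mk_surjective x
    exact Submodule.mem_sup.2 ⟨x', hx, a - x', by
      rw [Ideal.mem_comap, map_sub, ← hxy]; simpa using hy, add_sub_cancel _ _⟩
  · rw [← Ideal.comap_iInf, hbot, ← RingHom.ker_eq_comap_bot, Ideal.mk_ker]
  · rw [Ideal.mem_comap, Ideal.Quotient.eq_zero_iff_mem.2 ha]
    exact zero_mem _
  · haveI := i.isMaximal
    exact Ideal.comap_isMaximal_of_surjective _ Ideal.Quotient.mk_surjective
  · exact Ideal.comap_mono (Ideal.pow_le_self (Nat.succ_ne_zero N))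
  · have hKM : K ≤ M := fun a ha => hle (by
      rw [Ideal.mem_comap, Ideal.Quotient.eq_zero_iff_mem.2 ha]; exact zero_mem _)
    have e : (M.map (Ideal.Quotient.mk K)).comap (Ideal.Quotient.mk K) = M := by
      rw [Ideal.comap_map_of_surjective _ Ideal.Quotient.mk_surjective, ← RingHom.ker_eq_comap_bot, Ideal.mk_ker,
        sup_eq_left.2 hKM]
    have h2 : i.asIdeal ^ (N + 1) ≤ M.map (Ideal.Quotient.mk K) := by
      have := Ideal.map_mono (f := Ideal.Quotient.mk K) hle
      rwa [Ideal.map_comap_of_surjective _ Ideal.Quotient.mk_surjective] at this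
    haveI hp : (M.map (Ideal.Quotient.mk K)).IsPrime :=
      Ideal.map_isPrime_of_surjective Ideal.Quotient.mk_surjective (by rwa [Ideal.mk_ker])
    have h3 := i.isMaximal.eq_of_le hp.ne_top (hp.le_of_pow_le h2)
    rw [← e, ← h3]

def tlift {k A R T : Type u} [CommRing k] [CommRing A] [CommRing R] [CommRing T] [Algebra k A] [Algebra k R]
    [Algebra k T] (f : A →ₐ[k] T) (g : R →ₐ[k] T) : A ⊗[k] R →ₐ[k] T :=
  Algebra.TensorProduct.lift f g fun _ _ => Commute.all _ _

@[simp]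
theorem tlift_tmul {k A R T : Type u} [CommRing k] [CommRing A] [CommRing R] [CommRing T] [Algebra k A] [Algebra k R]
    [Algebra k T] (f : A →ₐ[k] T) (g : R →ₐ[k] T) (a : A) (r : R) : tlift f g (a ⊗ₜ r) = f a * g r :=
  Algebra.TensorProduct.lift_tmul _ _ _ _ _

theorem tlift_one {k A R T : Type u} [CommRing k] [CommRing A] [CommRing R] [CommRing T] [Algebra k A] [Algebra k R]
    [Algebra k T] (f : A →ₐ[k] T) (g : R →ₐ[k] T) (a : A) : tlift f g (a ⊗ₜ 1) = f a := by
  rw [tlift_tmul, map_one, mul_one]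

theorem smul_quot {R A : Type u} [CommRing R] [CommRing A] [Algebra R A] (L : Ideal A) (r : R) (x : A ⧸ L) :
    r • x = Ideal.Quotient.mk L (algebraMap R A r) * x := by
  obtain ⟨x, rfl⟩ := Ideal.Quotient.mk_surjective x
  show Ideal.Quotient.mk L (r • x) = Ideal.Quotient.mk L (algebraMap R A r * x)
  rw [Algebra.smul_def]

theorem exists_maximal_of_not_isUnit {T : Type u} [CommRing T] {x : T} (h : ¬ IsUnit x) :
    ∃ M : Ideal T, M.IsMaximal ∧ x ∈ M :=
  exists_max_ideal_of_mem_nonunits h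

variable {k : Type u} [Field k] {C B : Type u} [CommRing C] [IsLocalRing C] [Algebra k C]
  [CommRing B] [Algebra k B]

theorem ker_eq_maximalIdeal (π : C →ₐ[k] k) : RingHom.ker π = maximalIdeal C :=
  IsLocalRing.eq_maximalIdeal (RingHom.ker_isMaximal_of_surjective π fun c => ⟨algebraMap k C c, π.commutes c⟩)

theorem nakayama_nilpotent {M : Type u} [AddCommGroup M] [Module C M] {I : Ideal C} (hI : IsNilpotent I)
    (S : Submodule C M) (h : ⊤ ≤ S ⊔ I • (⊤ : Submodule C M)) : S = ⊤ := by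
  obtain ⟨N, hN⟩ := hI
  have hall : ∀ j : ℕ, ⊤ ≤ S ⊔ I ^ j • (⊤ : Submodule C M) := fun j => by
    induction j with
    | zero => simp
    | succ j ih =>
      refine ih.trans (sup_le le_sup_left ?_)
      refine (Submodule.smul_mono le_rfl h).trans ?_
      rw [Submodule.smul_sup]
      refine sup_le (Submodule.smul_le_right.trans le_sup_left) ?_
      rw [← mul_smul, ← pow_succ]
      exact le_sup_right
  have := hall N
  rwa [hN, Ideal.zero_eq_bot, Submodule.bot_smul, sup_bot_eq, top_le_iff] at this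

theorem exists_lift_hom (p : Ideal B) [p.IsPrime] {T : Type u} [CommRing T] [Algebra k T] (φ : B →ₐ[k] T)
    (h : ∀ s : p.primeCompl, IsUnit (φ s)) :
    ∃ l : Localization.AtPrime p →ₐ[k] T, ∀ b, l (algebraMap B _ b) = φ b :=
  ⟨IsLocalization.liftAlgHom (f := φ) h, fun b => IsLocalization.lift_eq h b⟩

variable [IsArtinianRing C]

/-- The lifting of one component. -/
theorem exists_lift_component (π : C →ₐ[k] k) (J : Ideal C) (hJ : J ≠ ⊤)
    (hreg : ∀ (p : Ideal B) [p.IsMaximal], IsRegularLocalRing (Localization.AtPrime p) ∧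
      ringKrullDim (Localization.AtPrime p) = 2)
    (L : Ideal ((C ⧸ J) ⊗[k] B)) [Module.Finite (C ⧸ J) (((C ⧸ J) ⊗[k] B) ⧸ L)]
    [Module.Flat (C ⧸ J) (((C ⧸ J) ⊗[k] B) ⧸ L)]
    (P : Ideal ((C ⧸ J) ⊗[k] B)) (hP : P.IsMaximal) (hLP : L ≤ P) (huniq : ∀ M : Ideal ((C ⧸ J) ⊗[k] B), M.IsMaximal → L ≤ M → M = P) :
    ∃ K : Ideal (C ⊗[k] B), Module.Finite C ((C ⊗[k] B) ⧸ K) ∧ Module.Flat C ((C ⊗[k] B) ⧸ K) ∧
      K.map (tmap B (Ideal.Quotient.mkₐ k J)) = L := by
  classical
  haveI : Nontrivial (C ⧸ J) := Ideal.Quotient.nontrivial_iff.2 hJ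
  haveI : IsLocalRing (C ⧸ J) := IsLocalRing.of_surjective' _ Ideal.Quotient.mk_surjective
  let q := tmap B (Ideal.Quotient.mkₐ k J)
  have hqs : Function.Surjective q := Algebra.TensorProduct.map_surjective _ _ Ideal.Quotient.mk_surjective
    Function.surjective_id
  have hnil₀ : IsNilpotent (maximalIdeal (C ⧸ J)) := by
    have h := IsArtinianRing.isNilpotent_jacobson_bot (R := C ⧸ J)
    rwa [IsLocalRing.jacobson_eq_maximalIdeal ⊥ bot_ne_top] at h
  have hker := ker_eq_maximalIdeal π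
  let inR : B →+* (C ⧸ J) ⊗[k] B := (Algebra.TensorProduct.includeRight : B →ₐ[k] (C ⧸ J) ⊗[k] B).toRingHom
  have hmP : ∀ c ∈ maximalIdeal (C ⧸ J), algebraMap (C ⧸ J) ((C ⧸ J) ⊗[k] B) c ∈ P := fun c hc => by
    obtain ⟨N, hN⟩ := hnil₀
    refine hP.isPrime.mem_of_pow_mem N ?_
    have h := Ideal.pow_mem_pow hc N
    rw [hN, Ideal.zero_eq_bot, Ideal.mem_bot] at h
    rw [← map_pow, h, map_zero]
    exact zero_mem _
  have hsP : Function.Surjective ((Ideal.Quotient.mk P).comp inR) := fun z => by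
    obtain ⟨z, rfl⟩ := Ideal.Quotient.mk_surjective z
    induction z using TensorProduct.induction_on with
    | zero => exact ⟨0, by simp⟩
    | tmul c b =>
      obtain ⟨c', rfl⟩ := Ideal.Quotient.mk_surjective c
      refine ⟨π c' • b, Ideal.Quotient.eq.2 ?_⟩
      show (1 : C ⧸ J) ⊗ₜ[k] (π c' • b) - Ideal.Quotient.mk J c' ⊗ₜ[k] b ∈ P
      rw [show (1 : C ⧸ J) ⊗ₜ[k] (π c' • b) - Ideal.Quotient.mk J c' ⊗ₜ[k] b =
        algebraMap (C ⧸ J) _ (Ideal.Quotient.mk J (algebraMap k C (π c') - c')) * ((1 : C ⧸ J) ⊗ₜ[k] b) by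
          rw [map_sub (Ideal.Quotient.mk J)]
          simp only [Algebra.TensorProduct.algebraMap_apply, Algebra.algebraMap_self_apply,
            Algebra.TensorProduct.tmul_mul_tmul, mul_one, one_mul]
          rw [TensorProduct.sub_tmul, TensorProduct.tmul_smul, TensorProduct.smul_tmul']
          simp [Algebra.smul_def]]
      refine Ideal.mul_mem_right _ _ (hmP _ ?_)
      haveI := IsLocalHom.of_surjective (Ideal.Quotient.mk J) Ideal.Quotient.mk_surjective
      refine map_nonunit (Ideal.Quotient.mk J) _ ?_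
      rw [← hker, RingHom.mem_ker, map_sub, AlgHom.commutes]
      exact sub_self _
    | add u v hu hv =>
      obtain ⟨a, ha⟩ := hu
      obtain ⟨b, hb⟩ := hv
      exact ⟨a + b, by rw [map_add, ha, hb, map_add]⟩
  let p : Ideal B := RingHom.ker ((Ideal.Quotient.mk P).comp inR)
  haveI hp : p.IsMaximal := by
    letI := Ideal.Quotient.field P
    exact RingHom.ker_isMaximal_of_surjective _ hsP
  obtain ⟨hR, hRdim⟩ := hreg p
  haveI := hR
  let φB : B →ₐ[k] ((C ⧸ J) ⊗[k] B) ⧸ L :=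
    (Ideal.Quotient.mkₐ k L).comp Algebra.TensorProduct.includeRight
  have hunit : ∀ s : p.primeCompl, IsUnit (φB s) := fun s => by
    by_contra hnu
    obtain ⟨M', hM', hsM⟩ := exists_maximal_of_not_isUnit (T := ((C ⧸ J) ⊗[k] B) ⧸ L) hnu
    haveI := hM'
    have hM : (M'.comap (Ideal.Quotient.mk L)).IsMaximal :=
      Ideal.comap_isMaximal_of_surjective _ Ideal.Quotient.mk_surjective
    have he := huniq _ hM (fun a ha => by
      rw [Ideal.mem_comap, Ideal.Quotient.eq_zero_iff_mem.2 ha]; exact zero_mem _)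
    refine s.2 ?_
    show Ideal.Quotient.mk P (inR s) = 0
    rw [Ideal.Quotient.eq_zero_iff_mem, ← he]
    exact hsM
  obtain ⟨lR, hlR⟩ := exists_lift_hom p (T := ((C ⧸ J) ⊗[k] B) ⧸ L) φB hunit
  let G : C ⊗[k] Localization.AtPrime p →ₐ[k] ((C ⧸ J) ⊗[k] B) ⧸ L :=
    tlift (T := ((C ⧸ J) ⊗[k] B) ⧸ L) (((Ideal.Quotient.mkₐ k L).comp Algebra.TensorProduct.includeLeft).comp
      (Ideal.Quotient.mkₐ k J)) lR
  let θ : C ⊗[k] B →ₐ[C] C ⊗[k] Localization.AtPrime p :=
    Algebra.TensorProduct.map (AlgHom.id C C) (IsScalarTower.toAlgHom k B (Localization.AtPrime p))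
  have hGθ : ∀ z, G (θ z) = Ideal.Quotient.mk L (q z) := fun z => by
    induction z using TensorProduct.induction_on with
    | zero => simp
    | tmul c b =>
      simp only [θ, G, Algebra.TensorProduct.map_tmul, tlift_tmul, AlgHom.coe_id, id_eq,
        IsScalarTower.coe_toAlgHom', hlR, q]
      show Ideal.Quotient.mk L _ * Ideal.Quotient.mk L _ = Ideal.Quotient.mk L _
      rw [← map_mul]
      simp
    | add u v hu hv => simp only [map_add, hu, hv]
  have hGs : Function.Surjective G := fun z => by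
    obtain ⟨z, rfl⟩ := Ideal.Quotient.mk_surjective z
    obtain ⟨z, rfl⟩ := hqs z
    exact ⟨θ z, hGθ z⟩
  let I₀ : Ideal (C ⊗[k] Localization.AtPrime p) := RingHom.ker G
  let ιC : C →+* ((C ⧸ J) ⊗[k] B) ⧸ L :=
    (Ideal.Quotient.mk L).comp ((algebraMap (C ⧸ J) ((C ⧸ J) ⊗[k] B)).comp (Ideal.Quotient.mk J))
  have hGC : ∀ c, G (algebraMap C _ c) = ιC c := fun c => by
    show G (c ⊗ₜ[k] (1 : Localization.AtPrime p)) = _
    exact tlift_one _ _ c
  let T := J.map (algebraMap C (C ⊗[k] Localization.AtPrime p))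
  have hT : T ≤ I₀ := Ideal.map_le_iff_le_comap.2 fun c hc => by
    rw [Ideal.mem_comap, RingHom.mem_ker, hGC]
    show Ideal.Quotient.mk L (algebraMap _ _ (Ideal.Quotient.mk J c)) = 0
    rw [Ideal.Quotient.eq_zero_iff_mem.2 hc, map_zero, map_zero]
  haveI : Nontrivial (((C ⧸ J) ⊗[k] B) ⧸ L) := Ideal.Quotient.nontrivial_iff.2 (ne_top_of_le_ne_top hP.ne_top hLP)
  have hI₀ : I₀ ≠ ⊤ := RingHom.ker_ne_top _
  let e := Ideal.quotientKerAlgEquivOfSurjective hGs
  have hart : IsArtinianRing ((C ⊗[k] Localization.AtPrime p) ⧸ I₀) := by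
    haveI : IsArtinianRing (((C ⧸ J) ⊗[k] B) ⧸ L) := IsArtinianRing.of_finite (C ⧸ J) _
    exact e.symm.toRingEquiv.surjective.isArtinianRing (f := e.symm.toRingEquiv.toRingHom)
  let G₀ : ((C ⊗[k] Localization.AtPrime p) ⧸ T) ⧸ I₀.map (Ideal.Quotient.mk T) ≃+*
      ((C ⧸ J) ⊗[k] B) ⧸ L :=
    ((DoubleQuot.quotQuotEquivQuotOfLE hT)).trans e.toRingEquiv
  let G₁ : (((C ⊗[k] Localization.AtPrime p) ⧸ T) ⧸ I₀.map (Ideal.Quotient.mk T)) ≃ₗ[C ⧸ J]
      ((C ⧸ J) ⊗[k] B) ⧸ L :=
    { G₀.toAddEquiv with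
      map_smul' := fun c z => by
        obtain ⟨c, rfl⟩ := Ideal.Quotient.mk_surjective c
        obtain ⟨z, rfl⟩ := Ideal.Quotient.mk_surjective z
        obtain ⟨z, rfl⟩ := Ideal.Quotient.mk_surjective z
        show G₀ (_ • Ideal.Quotient.mk _ (Ideal.Quotient.mk T z)) = Ideal.Quotient.mk J c • G₀ _
        rw [Algebra.smul_def, map_mul]
        refine Eq.trans ?_ (smul_quot L _ _).symm
        congr 1
        exact hGC c }
  have hflat : Module.Flat (C ⧸ J) (((C ⊗[k] Localization.AtPrime p) ⧸ T) ⧸ I₀.map (Ideal.Quotient.mk T)) :=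
    Module.Flat.of_linearEquiv G₁
  obtain ⟨I', hI'flat, hI'sup⟩ := exists_lift_local hRdim π J hJ I₀ hI₀ hT hflat hart
  haveI := hI'flat
  let ρ : C ⊗[k] B →ₐ[C] (C ⊗[k] Localization.AtPrime p) ⧸ I' := (Ideal.Quotient.mkₐ C I').comp θ
  let K : Ideal (C ⊗[k] B) := RingHom.ker ρ
  -- `J` times the module
  have hTsmul : ∀ t ∈ T, Ideal.Quotient.mk I' t ∈
      J • (⊤ : Submodule C ((C ⊗[k] Localization.AtPrime p) ⧸ I')) := by
    intro t ht
    rw [Ideal.smul_top_eq_map, Submodule.restrictScalars_mem]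
    rw [show algebraMap C ((C ⊗[k] Localization.AtPrime p) ⧸ I') =
      (Ideal.Quotient.mk I').comp (algebraMap C _) from rfl, ← Ideal.map_map]
    exact Ideal.mem_map_of_mem _ ht
  have hJnil : IsNilpotent J := by
    obtain ⟨N, hN⟩ := IsArtinianRing.isNilpotent_jacobson_bot (R := C)
    rw [IsLocalRing.jacobson_eq_maximalIdeal ⊥ bot_ne_top] at hN
    exact ⟨N, le_bot_iff.1 ((Ideal.pow_right_mono (le_maximalIdeal hJ) N).trans hN.le)⟩
  haveI : Module.Finite C (((C ⧸ J) ⊗[k] B) ⧸ L) := Module.Finite.trans (C ⧸ J) _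
  obtain ⟨S, hS⟩ := Module.Finite.fg_top (R := C) (M := ((C ⧸ J) ⊗[k] B) ⧸ L)
  choose w hw using fun s : ((C ⧸ J) ⊗[k] B) ⧸ L => (Ideal.Quotient.mk_surjective (I := L)).comp hqs s
  let W : Submodule C ((C ⊗[k] Localization.AtPrime p) ⧸ I') := Submodule.span C ((fun s => ρ (w s)) '' S)
  have hW : W = ⊤ := by
    refine nakayama_nilpotent hJnil W fun z _ => ?_
    obtain ⟨z, rfl⟩ := Ideal.Quotient.mk_surjective z
    have hzS : G z ∈ Submodule.span C (S : Set (((C ⧸ J) ⊗[k] B) ⧸ L)) := hS ▸ trivial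
    have hlift : ∀ g ∈ Submodule.span C (S : Set (((C ⧸ J) ⊗[k] B) ⧸ L)), ∃ v, Ideal.Quotient.mk I' v ∈ W ∧ G v = g := by
      intro g hg
      induction hg using Submodule.span_induction with
      | mem y hy => exact ⟨θ (w y), Submodule.subset_span ⟨y, hy, rfl⟩, (hGθ _).trans (hw y)⟩
      | zero => exact ⟨0, by simp, map_zero _⟩
      | add a b _ _ ha hb =>
        obtain ⟨va, hva, rfl⟩ := ha
        obtain ⟨vb, hvb, rfl⟩ := hb
        exact ⟨va + vb, by rw [map_add]; exact add_mem hva hvb, map_add _ _ _⟩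
      | smul c y _ hy =>
        obtain ⟨v, hv, rfl⟩ := hy
        refine ⟨algebraMap C _ c * v, ?_, ?_⟩
        · rw [map_mul, ← Ideal.Quotient.algebraMap_eq, ← IsScalarTower.algebraMap_apply, ← Algebra.smul_def]
          exact W.smul_mem c hv
        · rw [map_mul, hGC]
          exact (smul_quot L (Ideal.Quotient.mk J c) (G v)).symm
    obtain ⟨v, hv, hvz⟩ := hlift _ hzS
    have h0 : z - v ∈ I₀ := by rw [RingHom.mem_ker, map_sub, hvz, sub_self]
    rw [← hI'sup] at h0
    obtain ⟨i, hi, t, ht, hit⟩ := Submodule.mem_sup.1 h0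
    refine Submodule.mem_sup.2 ⟨_, hv, Ideal.Quotient.mk I' t, hTsmul t ht, ?_⟩
    rw [← map_add]
    refine Ideal.Quotient.eq.2 ?_
    rw [show v + t - z = -i by rw [eq_add_of_sub_eq hit.symm]; ring]
    exact neg_mem hi
  have hρs : Function.Surjective ρ := fun z => by
    have hle : W ≤ LinearMap.range ρ.toLinearMap := Submodule.span_le.2 (by
      rintro _ ⟨s, -, rfl⟩
      exact ⟨w s, rfl⟩)
    exact hle (hW ▸ trivial : z ∈ W)
  haveI : Module.Finite C ((C ⊗[k] Localization.AtPrime p) ⧸ I') :=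
    ⟨⟨S.image (fun s => ρ (w s)), by rw [Finset.coe_image]; exact hW⟩⟩
  let eρ := Ideal.quotientKerAlgEquivOfSurjective hρs
  refine ⟨K, Module.Finite.equiv eρ.symm.toLinearEquiv, Module.Flat.of_linearEquiv eρ.toLinearEquiv, ?_⟩
  refine le_antisymm (Ideal.map_le_iff_le_comap.2 fun z hz => ?_) fun z hz => ?_
  · rw [Ideal.mem_comap]
    refine Ideal.Quotient.eq_zero_iff_mem.1 ?_
    show Ideal.Quotient.mk L (q z) = 0
    rw [← hGθ]
    have h1 : θ z ∈ I' := Ideal.Quotient.eq_zero_iff_mem.1 hz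
    exact (hI'sup ▸ Ideal.mem_sup_left h1 : θ z ∈ I₀)
  · obtain ⟨z, rfl⟩ := hqs z
    have h1 : θ z ∈ I₀ := by rw [RingHom.mem_ker, hGθ, Ideal.Quotient.eq_zero_iff_mem.2 hz]
    rw [← hI'sup] at h1
    obtain ⟨i, hi, t, ht, hit⟩ := Submodule.mem_sup.1 h1
    have h2 : ρ z ∈ J • (⊤ : Submodule C ((C ⊗[k] Localization.AtPrime p) ⧸ I')) := by
      show Ideal.Quotient.mk I' (θ z) ∈ _
      rw [← hit, map_add, Ideal.Quotient.eq_zero_iff_mem.2 hi, zero_add]
      exact hTsmul t ht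
    rw [← LinearMap.range_eq_top.2 (show Function.Surjective ρ.toLinearMap from hρs), ← Submodule.map_top,
      ← Submodule.map_smul''] at h2
    obtain ⟨z', hz', hzz⟩ := h2
    have h3 : z' ∈ J.map (algebraMap C (C ⊗[k] B)) := by
      rw [SetLike.mem_coe, Ideal.smul_top_eq_map] at hz'; exact hz'
    have h4 : q z' = 0 := by
      have : J.map (algebraMap C (C ⊗[k] B)) ≤ RingHom.ker q := Ideal.map_le_iff_le_comap.2 fun c hc => by
        rw [Ideal.mem_comap, RingHom.mem_ker]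
        show q (c ⊗ₜ[k] (1 : B)) = 0
        simp [q, Ideal.Quotient.eq_zero_iff_mem.2 hc]
      exact this h3
    have h5 : z - z' ∈ K := by
      rw [RingHom.mem_ker, map_sub]
      exact sub_eq_zero.2 hzz.symm
    have h6 := Ideal.mem_map_of_mem q h5
    rwa [map_sub, h4, sub_zero] at h6

/-- Families of ideals of finite colength on a regular affine surface lift. -/
theorem exists_lift_family (π : C →ₐ[k] k) (J : Ideal C) (hJ : J ≠ ⊤)
    (hreg : ∀ (p : Ideal B) [p.IsMaximal], IsRegularLocalRing (Localization.AtPrime p) ∧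
      ringKrullDim (Localization.AtPrime p) = 2)
    {n : ℕ} {K₀ : Ideal ((C ⧸ J) ⊗[k] B)} (hK₀ : IsFam n K₀) :
    ∃ K : Ideal (C ⊗[k] B), IsFam n K ∧ K.map (tmap B (Ideal.Quotient.mkₐ k J)) = K₀ := by
  classical
  haveI : Nontrivial (C ⧸ J) := Ideal.Quotient.nontrivial_iff.2 hJ
  haveI : IsLocalRing (C ⧸ J) := IsLocalRing.of_surjective' _ Ideal.Quotient.mk_surjective
  haveI := hK₀.fin
  haveI := hK₀.proj
  haveI : IsArtinianRing (((C ⧸ J) ⊗[k] B) ⧸ K₀) := IsArtinianRing.of_finite (C ⧸ J) _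
  obtain ⟨ι, _, L, hcop, hinf, hL⟩ := exists_decomp K₀
  let q := tmap B (Ideal.Quotient.mkₐ k J)
  have hqs : Function.Surjective q := Algebra.TensorProduct.map_surjective _ _ Ideal.Quotient.mk_surjective
    Function.surjective_id
  have hfac : ∀ i, Module.Finite (C ⧸ J) (((C ⧸ J) ⊗[k] B) ⧸ L i) ∧
      Module.Flat (C ⧸ J) (((C ⧸ J) ⊗[k] B) ⧸ L i) := by
    intro i
    let π₁ := (Ideal.Quotient.factorₐ (C ⧸ J) (hL i).1).toLinearMap
    have hπ₁ : Function.Surjective π₁ := Ideal.Quotient.factor_surjective (hL i).1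
    haveI : Module.Finite (C ⧸ J) (((C ⧸ J) ⊗[k] B) ⧸ L i) := Module.Finite.of_surjective π₁ hπ₁
    obtain ⟨ε, hεi, hεj⟩ : ∃ ε : (C ⧸ J) ⊗[k] B, ε - 1 ∈ L i ∧ ∀ j, j ≠ i → ε ∈ L j := by
      obtain ⟨ε, hε⟩ := Ideal.quotientInfToPiQuotient_surj (I := L) hcop (Pi.single i 1)
      obtain ⟨ε', rfl⟩ := Ideal.Quotient.mk_surjective ε
      refine ⟨ε', ?_, fun j hj => ?_⟩
      · have := congrFun hε i
        rw [Pi.single_eq_same, Ideal.quotientInfToPiQuotient_mk'] at this
        rw [← Ideal.Quotient.eq_zero_iff_mem, map_sub, this, map_one, sub_self]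
      · have := congrFun hε j
        rw [Pi.single_eq_of_ne hj, Ideal.quotientInfToPiQuotient_mk'] at this
        exact Ideal.Quotient.eq_zero_iff_mem.1 this
    let sec : (((C ⧸ J) ⊗[k] B) ⧸ L i) →ₗ[C ⧸ J] ((C ⧸ J) ⊗[k] B) ⧸ K₀ :=
      (Submodule.liftQ ((L i).restrictScalars (C ⧸ J))
        ((Ideal.Quotient.mkₐ (C ⧸ J) K₀).toLinearMap ∘ₗ LinearMap.mulLeft (C ⧸ J) ε) fun z hz => by
          rw [LinearMap.mem_ker]
          show Ideal.Quotient.mk K₀ (ε * z) = 0
          rw [Ideal.Quotient.eq_zero_iff_mem, ← hinf, Submodule.mem_iInf]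
          intro j
          by_cases h : j = i
          · subst h; exact (L j).mul_mem_left _ hz
          · exact (L j).mul_mem_right _ (hεj j h)) ∘ₗ
        (Submodule.Quotient.restrictScalarsEquiv (C ⧸ J) (L i)).symm.toLinearMap
    have hsec : π₁ ∘ₗ sec = LinearMap.id := by
      refine LinearMap.ext fun z => ?_
      obtain ⟨z, rfl⟩ := Ideal.Quotient.mk_surjective z
      show Ideal.Quotient.mk (L i) (ε * z) = Ideal.Quotient.mk (L i) z
      rw [Ideal.Quotient.eq, ← sub_one_mul]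
      exact (L i).mul_mem_right _ hεi
    haveI : Module.Projective (C ⧸ J) (((C ⧸ J) ⊗[k] B) ⧸ L i) := Module.Projective.of_split sec π₁ hsec
    exact ⟨inferInstance, inferInstance⟩
  have hcomp : ∀ i, ∃ K : Ideal (C ⊗[k] B), Module.Finite C ((C ⊗[k] B) ⧸ K) ∧
      Module.Flat C ((C ⊗[k] B) ⧸ K) ∧ K.map q = L i := fun i => by
    haveI := (hfac i).1
    haveI := (hfac i).2
    obtain ⟨P, hP, hLP, hu⟩ := (hL i).2
    exact exists_lift_component π J hJ hreg (L i) P hP hLP hu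
  choose Ki hfin hflat hmap using hcomp
  have hcopK : Pairwise fun i j => IsCoprime (Ki i) (Ki j) := fun i j hij => by
    show IsCoprime (Ki i) (Ki j)
    rw [Ideal.isCoprime_iff_sup_eq]
    by_contra hne
    obtain ⟨M, hM, hle⟩ := Ideal.exists_le_maximal _ hne
    have hkM : RingHom.ker q ≤ M := fun z hz => by
      have hz' : z ∈ J.map (algebraMap C (C ⊗[k] B)) := by
        rw [RingHom.mem_ker] at hz
        have h := Algebra.TensorProduct.rTensor_ker (R := k) (C := B) (Ideal.Quotient.mkₐ k J) (Ideal.Quotient.mkₐ_surjective k J)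
        have h2 : z ∈ RingHom.ker q := hz
        rw [show RingHom.ker q = _ from h, show RingHom.ker (Ideal.Quotient.mkₐ k J) = J from Ideal.Quotient.mkₐ_ker k J] at h2
        exact h2
      refine (Ideal.map_le_iff_le_comap.2 fun c hc => ?_) hz'
      obtain ⟨N, hN⟩ := IsArtinianRing.isNilpotent_jacobson_bot (R := C)
      rw [IsLocalRing.jacobson_eq_maximalIdeal ⊥ bot_ne_top] at hN
      refine hM.isPrime.mem_of_pow_mem N ?_
      have h := Ideal.pow_mem_pow (le_maximalIdeal hJ hc) N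
      rw [hN, Ideal.zero_eq_bot, Ideal.mem_bot] at h
      rw [← map_pow, h, map_zero]
      exact zero_mem _
    have h1 : Ideal.map q M = ⊤ := by
      rw [eq_top_iff, ← Ideal.isCoprime_iff_sup_eq.1 (hcop hij), ← hmap i, ← hmap j, ← Ideal.map_sup]
      exact Ideal.map_mono hle
    have h2 := congrArg (Ideal.comap q) h1
    rw [Ideal.comap_map_of_surjective _ hqs, ← RingHom.ker_eq_comap_bot, Ideal.comap_top,
      sup_eq_left.2 hkM] at h2
    exact hM.ne_top h2
  let K : Ideal (C ⊗[k] B) := ⨅ i, Ki i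
  have hKprod : K = ∏ i, Ki i := by
    have h := Ideal.prod_eq_iInf_of_pairwise_isCoprime (s := (Finset.univ : Finset ι)) (J := Ki)
      (fun i _ j _ hij => hcopK hij)
    simp only [Finset.mem_univ, iInf_pos] at h
    exact h.symm
  have hmapK : K.map q = K₀ := by
    have h := Ideal.prod_eq_iInf_of_pairwise_isCoprime (s := (Finset.univ : Finset ι)) (J := L)
      (fun i _ j _ hij => hcop hij)
    simp only [Finset.mem_univ, iInf_pos] at h
    rw [hKprod, ← hinf, ← h, ← Ideal.mapHom_apply, map_prod]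
    exact Finset.prod_congr rfl fun i _ => hmap i
  haveI : ∀ i, Module.Finite C ((C ⊗[k] B) ⧸ Ki i) := hfin
  haveI hfree : ∀ i, Module.Free C ((C ⊗[k] B) ⧸ Ki i) := fun i => by
    haveI := hflat i
    exact Module.free_of_flat_of_isLocalRing
  let e : ((C ⊗[k] B) ⧸ K) ≃ₗ[C] ∀ i, (C ⊗[k] B) ⧸ Ki i :=
    { (Ideal.quotientInfRingEquivPiQuotient Ki hcopK).toAddEquiv with
      map_smul' := fun c z => by
        obtain ⟨z, rfl⟩ := Ideal.Quotient.mk_surjective z
        funext i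
        show Ideal.Quotient.mk (Ki i) (c • z) = c • Ideal.Quotient.mk (Ki i) z
        rw [← Ideal.Quotient.mkₐ_eq_mk C, map_smul] }
  haveI : Module.Finite C ((C ⊗[k] B) ⧸ K) := Module.Finite.equiv e.symm
  haveI : Module.Free C ((C ⊗[k] B) ⧸ K) := Module.Free.of_equiv e.symm
  have hfam : IsFam (Module.finrank C ((C ⊗[k] B) ⧸ K)) K :=
    ⟨inferInstance, inferInstance, fun p => by rw [Module.rankAtStalk_eq_finrank_of_free]; rfl⟩
  have h1 := hfam.map (Ideal.Quotient.mkₐ k J)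
  rw [hmapK] at h1
  have hn : Module.finrank C ((C ⊗[k] B) ⧸ K) = n := by
    let p₀ : PrimeSpectrum (C ⧸ J) := IsLocalRing.closedPoint _
    exact (h1.rank p₀).symm.trans (hK₀.rank p₀)
  exact ⟨K, hn ▸ hfam, hmapK⟩

end Groth.L11.Fogarty
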