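import Groth.Agent.L11.Fogarty.Points
import Mathlib.RingTheory.DualNumber
import Mathlib.RingTheory.Ideal.Cotangent
import Mathlib.RingTheory.RegularLocalRing.Defs
import Mathlib.Algebra.Module.SpanRankOperations
import Mathlib.LinearAlgebra.Dual.Lemmas

/-!
# The first-order neighbourhood of `n` points
-/

set_option autoImplicit false
set_option linter.style.haveILetI false
set_option linter.unusedSectionVars false
set_option backward.isDefEq.respectTransparency false
set_option backward.isDefEq.respectTransparency.types false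

universe u

open scoped TensorProduct
open IsLocalRing TrivSqZeroExt Groth.L11.HilbConn

noncomputable section

namespace Groth.L11.Fogarty

variable {k : Type u} [Field k] {B : Type u} [CommRing B] [Algebra k B]

theorem finrank_cotangentSpace_eq {S : Type u} [CommRing S] [IsLocalRing S] [IsNoetherianRing S] [Algebra k S]
    (χ : S →ₐ[k] k) : Module.finrank k (CotangentSpace S) = (maximalIdeal S).spanFinrank := by
  rw [spanFinrank_maximalIdeal_eq_finrank_cotangentSpace]
  have hbij : Function.Bijective (algebraMap k (ResidueField S)) := by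
    refine ⟨(algebraMap k (ResidueField S)).injective, fun z => ?_⟩
    obtain ⟨s, rfl⟩ := IsLocalRing.residue_surjective z
    refine ⟨χ s, ?_⟩
    show IsLocalRing.residue S (algebraMap k S (χ s)) = _
    refine Ideal.Quotient.eq.2 ?_
    rw [← ker_eq_maximalIdeal χ, RingHom.mem_ker, map_sub, AlgHom.commutes]
    exact sub_self _
  haveI : IsScalarTower k (ResidueField S) (CotangentSpace S) := IsScalarTower.of_algebraMap_smul fun c z => by
    rw [IsScalarTower.algebraMap_apply k S (ResidueField S), ← IsScalarTower.algebraMap_smul S c z]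
    exact IsScalarTower.algebraMap_smul (ResidueField S) (algebraMap k S c) z
  rw [← Module.finrank_mul_finrank k (ResidueField S) (CotangentSpace S),
    ← (LinearEquiv.ofBijective (Algebra.linearMap k (ResidueField S)) hbij).finrank_eq, Module.finrank_self, one_mul]

theorem finrank_cotangent_ker (χ : B →ₐ[k] k) {d : ℕ}
    (h : ∀ (p : Ideal B) [p.IsMaximal], IsRegularLocalRing (Localization.AtPrime p) ∧
      ringKrullDim (Localization.AtPrime p) = d) :
    Module.finrank k (RingHom.ker χ).Cotangent = d := by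
  haveI hm : (RingHom.ker χ).IsMaximal :=
    RingHom.ker_isMaximal_of_surjective χ fun c => ⟨algebraMap k B c, χ.commutes c⟩
  obtain ⟨hS, hd⟩ := h (RingHom.ker χ)
  haveI := hS
  let S := Localization.AtPrime (RingHom.ker χ)
  let ι : B →ₐ[k] S := IsScalarTower.toAlgHom k B S
  have hu : ∀ s : (RingHom.ker χ).primeCompl, IsUnit (χ s) := fun s => Ne.isUnit s.2
  obtain ⟨χS, hχS⟩ := exists_lift_hom (RingHom.ker χ) χ hu
  have hle : RingHom.ker χ ≤ (maximalIdeal S).comap ι := fun b hb => by
    rw [Ideal.mem_comap, ← ker_eq_maximalIdeal χS, RingHom.mem_ker]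
    exact (hχS b).trans hb
  let φ := Ideal.mapCotangent (RingHom.ker χ) (maximalIdeal S) ι hle
  have hinj : Function.Injective φ := by
    rw [injective_iff_map_eq_zero]
    intro z hz
    obtain ⟨⟨b, hb⟩, rfl⟩ := (RingHom.ker χ).toCotangent_surjective z
    have hz' : (maximalIdeal S).toCotangent ⟨ι b, hle hb⟩ = 0 := hz
    rw [Ideal.toCotangent_eq_zero] at hz' ⊢
    have h2 : algebraMap B S b ∈ (RingHom.ker χ ^ 2).map (algebraMap B S) := by
      rw [Ideal.map_pow, IsLocalization.AtPrime.map_eq_maximalIdeal]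
      exact hz'
    obtain ⟨⟨⟨w, hw⟩, s⟩, he⟩ := (IsLocalization.mem_map_algebraMap_iff (RingHom.ker χ).primeCompl S).1 h2
    rw [← map_mul] at he
    obtain ⟨t, ht⟩ := (IsLocalization.eq_iff_exists (RingHom.ker χ).primeCompl S).1 he
    let u : B := t * s
    have hub : u * b ∈ RingHom.ker χ ^ 2 := by
      rw [show u * b = t * (b * s) by show (t : B) * s * b = _; ring, ht]
      exact Ideal.mul_mem_left _ _ hw
    have hu0 : χ u ≠ 0 := by
      rw [map_mul]; exact mul_ne_zero t.2 s.2
    have h3 : (u - algebraMap k B (χ u)) * b ∈ RingHom.ker χ ^ 2 := by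
      rw [pow_two]
      refine Ideal.mul_mem_mul ?_ hb
      rw [RingHom.mem_ker, map_sub, AlgHom.commutes]
      exact sub_self _
    have h4 : algebraMap k B (χ u) * b ∈ RingHom.ker χ ^ 2 := by
      have := sub_mem hub h3
      rwa [← sub_mul, sub_sub_cancel] at this
    have h5 := Ideal.mul_mem_left _ (algebraMap k B (χ u)⁻¹) h4
    rwa [← mul_assoc, ← map_mul, inv_mul_cancel₀ hu0, map_one, one_mul] at h5
  have hsurj : Function.Surjective φ := fun z => by
    obtain ⟨⟨a, ha⟩, rfl⟩ := (maximalIdeal S).toCotangent_surjective z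
    obtain ⟨b, s, rfl⟩ := IsLocalization.exists_mk'_eq (RingHom.ker χ).primeCompl a
    have hs0 : χ s ≠ 0 := s.2
    have hb : b ∈ RingHom.ker χ := by
      rw [← ker_eq_maximalIdeal χS, RingHom.mem_ker] at ha
      have h1 := congrArg χS (IsLocalization.mk'_spec S b s)
      rw [map_mul, ha, zero_mul, hχS] at h1
      exact h1.symm
    refine ⟨(RingHom.ker χ).toCotangent ⟨algebraMap k B (χ s)⁻¹ * b, Ideal.mul_mem_left _ _ hb⟩, ?_⟩
    show (maximalIdeal S).toCotangent _ = _
    rw [Ideal.toCotangent_eq, pow_two]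
    have e : ι (algebraMap k B (χ s)⁻¹ * b) - IsLocalization.mk' S b s =
        IsLocalization.mk' S b s * ι (algebraMap k B (χ s)⁻¹ * s - 1) := by
      rw [map_mul, map_sub, map_mul, map_one, mul_sub, mul_one]
      congr 1
      rw [mul_left_comm, show ι (s : B) = algebraMap B S s from rfl, IsLocalization.mk'_spec]
      rfl
    show ι (algebraMap k B (χ s)⁻¹ * b) - IsLocalization.mk' S b s ∈ _
    rw [e]
    refine Ideal.mul_mem_mul ha (hle ?_)
    rw [RingHom.mem_ker, map_sub, map_mul, AlgHom.commutes, map_one, Algebra.algebraMap_self_apply,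
      inv_mul_cancel₀ hs0, sub_self]
  rw [(LinearEquiv.ofBijective φ ⟨hinj, hsurj⟩).finrank_eq]
  have h1 := finrank_cotangentSpace_eq χS
  have h2 := hS.spanFinrank_maximalIdeal
  rw [hd] at h2
  exact h1.trans (by exact_mod_cast h2)

/-- A point with values in the dual numbers. -/
def toDual {A : Type u} [CommRing A] [Algebra k A] (χ : A →ₐ[k] k) (d : A →ₗ[k] k)
    (hd : ∀ a b, d (a * b) = χ a * d b + χ b * d a) : A →ₐ[k] DualNumber k :=
  AlgHom.ofLinearMap
    { toFun := fun a => inl (χ a) + inr (d a)
      map_add' := fun a b => TrivSqZeroExt.ext (by simp) (by simp)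
      map_smul' := fun c a => TrivSqZeroExt.ext (by simp) (by simp) }
    (by
      have h1 := hd 1 1
      rw [mul_one, map_one χ, one_mul, left_eq_add] at h1
      exact TrivSqZeroExt.ext (by simp) (by simpa using h1))
    fun a b => TrivSqZeroExt.ext (by simp) (by simp [hd, mul_comm])

theorem fst_toDual {A : Type u} [CommRing A] [Algebra k A] (χ : A →ₐ[k] k) (d : A →ₗ[k] k)
    (hd : ∀ a b, d (a * b) = χ a * d b + χ b * d a) (a : A) : (toDual χ d hd a).fst = χ a := by
  simp [toDual]

theorem snd_toDual {A : Type u} [CommRing A] [Algebra k A] (χ : A →ₐ[k] k) (d : A →ₗ[k] k)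
    (hd : ∀ a b, d (a * b) = χ a * d b + χ b * d a) (a : A) : (toDual χ d hd a).snd = d a := by
  simp [toDual]

theorem algebraMap_dual (c : k) : algebraMap k (DualNumber k) c = inl c := rfl

/-- The differential at a point. -/
def dcot (χ : B →ₐ[k] k) : B →ₗ[k] (RingHom.ker χ).Cotangent where
  toFun b := (RingHom.ker χ).toCotangent
    ⟨b - algebraMap k B (χ b), by rw [RingHom.mem_ker, map_sub, AlgHom.commutes]; exact sub_self _⟩
  map_add' a b := by
    rw [← map_add]
    congr 1
    refine Subtype.ext ?_
    show a + b - algebraMap k B (χ (a + b)) = a - algebraMap k B (χ a) + (b - algebraMap k B (χ b))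
    simp only [map_add]; ring
  map_smul' c a := by
    rw [RingHom.id_apply, ← IsScalarTower.algebraMap_smul B c ((RingHom.ker χ).toCotangent _), ← map_smul]
    congr 1
    refine Subtype.ext ?_
    show c • a - algebraMap k B (χ (c • a)) = algebraMap k B c * (a - algebraMap k B (χ a))
    rw [map_smul, smul_eq_mul, map_mul, Algebra.smul_def]; ring

theorem dcot_mul (χ : B →ₐ[k] k) (a b : B) : dcot χ (a * b) = χ a • dcot χ b + χ b • dcot χ a := by
  show (RingHom.ker χ).toCotangent _ = χ a • (RingHom.ker χ).toCotangent _ + χ b • (RingHom.ker χ).toCotangent _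
  rw [← IsScalarTower.algebraMap_smul B (χ a) ((RingHom.ker χ).toCotangent _),
    ← IsScalarTower.algebraMap_smul B (χ b) ((RingHom.ker χ).toCotangent _), ← map_smul, ← map_smul, ← map_add]
  refine (Ideal.toCotangent_eq _).2 ?_
  have hab : ∀ c : B, c - algebraMap k B (χ c) ∈ RingHom.ker χ := fun c => by
    rw [RingHom.mem_ker, map_sub, AlgHom.commutes]; exact sub_self _
  rw [pow_two]
  convert Ideal.mul_mem_mul (hab a) (hab b) using 1
  simp only [Submodule.coe_add, SetLike.val_smul, smul_eq_mul, map_mul]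
  ring

theorem dcot_of_mem (χ : B →ₐ[k] k) (b : RingHom.ker χ) : dcot χ b = (RingHom.ker χ).toCotangent b := by
  show (RingHom.ker χ).toCotangent _ = _
  congr 1
  refine Subtype.ext ?_
  show (b : B) - algebraMap k B (χ b) = b
  rw [show χ b = 0 from b.2, map_zero, sub_zero]

/-- The reduction of the dual numbers. -/
abbrev dfst : DualNumber k →ₐ[k] k := TrivSqZeroExt.fstHom k k k

variable {C : Type u} [CommRing C] [Algebra k C] [IsLocalRing C] {n : ℕ}

/-- The linear map `c ↦ c - π c`. -/
def augMap (π : C →ₐ[k] k) : C →ₗ[k] (maximalIdeal C).restrictScalars k :=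
  (LinearMap.id - (Algebra.linearMap k C).comp π.toLinearMap).codRestrict _ fun c => by
    rw [Submodule.restrictScalars_mem, ← ker_eq_maximalIdeal π, RingHom.mem_ker]
    simp

theorem augMap_coe (π : C →ₐ[k] k) (c : C) : (augMap π c : C) = c - algebraMap k C (π c) := rfl

theorem augMap_mul (π : C →ₐ[k] k) (hN : maximalIdeal C * maximalIdeal C = ⊥) (a b : C) :
    augMap π (a * b) = π a • augMap π b + π b • augMap π a := by
  refine Subtype.ext ?_
  have h := Ideal.mul_mem_mul (augMap π a).2 (augMap π b).2
  rw [hN, Ideal.mem_bot, augMap_coe, augMap_coe] at h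
  simp only [Submodule.coe_add, SetLike.val_smul, augMap_coe, Algebra.smul_def, map_mul]
  linear_combination h

theorem augMap_of_mem (π : C →ₐ[k] k) (v : (maximalIdeal C).restrictScalars k) : augMap π v = v := by
  refine Subtype.ext ?_
  have : π v = 0 := (ker_eq_maximalIdeal π).ge v.2
  rw [augMap_coe, this, map_zero, sub_zero]

/-- The first-order neighbourhood of `n` regular points of a surface. -/
theorem finrank_maximalIdeal_eq (π : C →ₐ[k] k) (hN : maximalIdeal C * maximalIdeal C = ⊥)
    (χ : Fin n → B →ₐ[k] k) (X : Fin n → B →ₐ[k] C) (hX : ∀ i, π.comp (X i) = χ i) {d : ℕ} (hd : 0 < d)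
    (hdim : ∀ i, Module.finrank k (RingHom.ker (χ i)).Cotangent = d)
    [Module.Finite k ((maximalIdeal C).restrictScalars k)]
    (hext : ∀ ψ ψ' : C →ₐ[k] DualNumber k, dfst.comp ψ = π → dfst.comp ψ' = π →
      (∀ i, ψ.comp (X i) = ψ'.comp (X i)) → ψ = ψ')
    (hlift : ∀ Z : Fin n → B →ₐ[k] DualNumber k, (∀ i, dfst.comp (Z i) = χ i) →
      ∃ ψ : C →ₐ[k] DualNumber k, dfst.comp ψ = π ∧ ∀ i, ψ.comp (X i) = Z i) :
    Module.finrank k ((maximalIdeal C).restrictScalars k) = d * n := by
  classical
  have hXπ : ∀ i b, π (X i b) = χ i b := fun i b => AlgHom.congr_fun (hX i) b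
  let θ₀ : ∀ i, (RingHom.ker (χ i)).restrictScalars k →ₗ[k] (maximalIdeal C).restrictScalars k := fun i =>
    (augMap π).comp ((X i).toLinearMap.comp ((RingHom.ker (χ i)).restrictScalars k).subtype)
  have hθ₀ : ∀ i, (((RingHom.ker (χ i)) • ⊤ : Submodule B (RingHom.ker (χ i))).restrictScalars k) ≤
      LinearMap.ker (θ₀ i) := fun i z hz => by
    rw [Submodule.restrictScalars_mem] at hz
    rw [LinearMap.mem_ker]
    refine Submodule.smul_induction_on (p := fun z => θ₀ i z = 0) hz (fun r hr m _ => ?_) fun a b ha hb => ?_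
    · show augMap π (X i (r * m)) = 0
      rw [map_mul, augMap_mul π hN, hXπ, hXπ, show χ i r = 0 from hr, show χ i m = 0 from m.2, zero_smul, zero_smul,
        add_zero]
    · show θ₀ i (a + b) = 0
      rw [map_add, ha, hb, add_zero]
  let θ : ∀ i, (RingHom.ker (χ i)).Cotangent →ₗ[k] (maximalIdeal C).restrictScalars k := fun i =>
    (Submodule.liftQ _ (θ₀ i) (hθ₀ i)).comp (Submodule.Quotient.restrictScalarsEquiv k
      ((RingHom.ker (χ i)) • ⊤ : Submodule B (RingHom.ker (χ i)))).symm.toLinearMap
  have hθ : ∀ i (b : RingHom.ker (χ i)), θ i ((RingHom.ker (χ i)).toCotangent b) = augMap π (X i b) :=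
    fun i b => rfl
  let Θ : (∀ i, (RingHom.ker (χ i)).Cotangent) →ₗ[k] (maximalIdeal C).restrictScalars k :=
    LinearMap.lsum k (fun i => (RingHom.ker (χ i)).Cotangent) k θ
  have hΘ : ∀ v, Θ v = ∑ i, θ i (v i) := fun v => by simp [Θ]
  haveI : ∀ i, Module.Finite k (RingHom.ker (χ i)).Cotangent := fun i =>
    Module.finite_of_finrank_pos (by rw [hdim i]; exact hd)
  have hsurj : Function.Surjective Θ := by
    rw [← LinearMap.range_eq_top]
    by_contra hne
    obtain ⟨w, hw⟩ := SetLike.exists_not_mem_of_ne_top _ hne rfl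
    obtain ⟨δ, hδw, hδ⟩ := Submodule.exists_dual_map_eq_bot_of_notMem hw inferInstance
    have hδ0 : ∀ v, δ (Θ v) = 0 := fun v => by
      have : δ (Θ v) ∈ (LinearMap.range Θ).map δ := Submodule.mem_map_of_mem ⟨v, rfl⟩
      rwa [hδ, Submodule.mem_bot] at this
    have hd₁ : ∀ a b, (δ.comp (augMap π)) (a * b) = π a * δ.comp (augMap π) b + π b * δ.comp (augMap π) a :=
      fun a b => by simp only [LinearMap.comp_apply, augMap_mul π hN, map_add, map_smul, smul_eq_mul]
    have h := hext (toDual π _ hd₁) ((Algebra.ofId k (DualNumber k)).comp π)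
      (AlgHom.ext fun c => fst_toDual π _ hd₁ c) (AlgHom.ext fun c => by simp) fun i => AlgHom.ext fun b => by
        refine TrivSqZeroExt.ext ?_ ?_
        · simp only [AlgHom.comp_apply, fst_toDual]
          simp [Algebra.ofId_apply, algebraMap_dual]
        · simp only [AlgHom.comp_apply, snd_toDual, LinearMap.comp_apply]
          have hb : b - algebraMap k B (χ i b) ∈ RingHom.ker (χ i) := by
            rw [RingHom.mem_ker, map_sub, AlgHom.commutes]; exact sub_self _
          have e : augMap π (X i b) = Θ (Pi.single i ((RingHom.ker (χ i)).toCotangent ⟨_, hb⟩)) := by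
            rw [hΘ, Finset.sum_eq_single i (fun j _ hj => by rw [Pi.single_eq_of_ne hj, map_zero])
              (fun hni => absurd (Finset.mem_univ i) hni), Pi.single_eq_same, hθ]
            refine Subtype.ext ?_
            simp only [map_sub, AlgHom.commutes, Submodule.coe_sub, augMap_coe]
            simp [hXπ]
          rw [e, hδ0]
          simp [Algebra.ofId_apply, algebraMap_dual]
    refine hδw ?_
    have h2 := congrArg TrivSqZeroExt.snd (AlgHom.congr_fun h (w : C))
    rw [snd_toDual, LinearMap.comp_apply, augMap_of_mem] at h2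
    simpa [Algebra.ofId_apply, algebraMap_dual] using h2
  have hinj : Function.Injective Θ := by
    rw [← LinearMap.ker_eq_bot, Submodule.eq_bot_iff]
    intro v hv
    rw [LinearMap.mem_ker] at hv
    funext j
    refine (Module.forall_dual_apply_eq_zero_iff k _).1 fun lam => ?_
    let D : ∀ i, B →ₗ[k] k := fun i => if h : i = j then (h ▸ lam : _ →ₗ[k] k).comp (dcot (χ i)) else 0
    have hD : ∀ i a b, D i (a * b) = χ i a * D i b + χ i b * D i a := fun i a b => by
      by_cases h : i = j
      · simp only [D, dif_pos h, LinearMap.comp_apply, dcot_mul, map_add, map_smul, smul_eq_mul]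
      · simp [D, dif_neg h]
    obtain ⟨ψ, hψ, hψX⟩ := hlift (fun i => toDual (χ i) (D i) (hD i)) fun i => AlgHom.ext fun b => fst_toDual (χ i) (D i) (hD i) b
    have hkey : ∀ i (w : (RingHom.ker (χ i)).Cotangent),
        (ψ ((θ i w : (maximalIdeal C).restrictScalars k) : C)).snd = if h : i = j then (h ▸ lam : _ →ₗ[k] k) w else 0 := by
      intro i w
      obtain ⟨⟨b, hb⟩, rfl⟩ := (RingHom.ker (χ i)).toCotangent_surjective w
      have hb' : χ i b = 0 := hb
      rw [hθ, augMap_coe, hXπ, hb', map_zero, sub_zero, show ψ (X i b) = _ from AlgHom.congr_fun (hψX i) b, snd_toDual]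
      by_cases h : i = j
      · simp only [D, dif_pos h, LinearMap.comp_apply]
        rw [show dcot (χ i) b = _ from dcot_of_mem (χ i) ⟨b, hb⟩]
      · simp [D, dif_neg h]
    have h1 := congrArg (fun z : (maximalIdeal C).restrictScalars k => (ψ (z : C)).snd) hv
    simp only [hΘ, Submodule.coe_sum, map_sum, TrivSqZeroExt.snd_sum, hkey, ZeroMemClass.coe_zero, map_zero,
      TrivSqZeroExt.snd_zero] at h1
    rwa [Finset.sum_eq_single j (fun i _ hi => dif_neg hi) (fun h => absurd (Finset.mem_univ j) h), dif_pos rfl] at h1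
  rw [← (LinearEquiv.ofBijective Θ ⟨hinj, hsurj⟩).finrank_eq, Module.finrank_pi_fintype, Finset.sum_congr rfl fun i _ => hdim i,
    Finset.sum_const, Finset.card_univ, Fintype.card_fin, smul_eq_mul, mul_comm]

end Groth.L11.Fogarty
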