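import Groth.Agent.L11.Fogarty.Smooth
import Groth.Agent.L11.Fogarty.Tangent
import Groth.Agent.S11300
import Groth.Agent.L02.SchDom.GeomFibre
import Groth.Agent.L06.NoEmbed.Frame
import Groth.Agent.L01.Regular
import Groth.Agent.S1535
import Groth.Agent.S1166

/-!
# Fogarty's theorem
-/

set_option autoImplicit false
set_option linter.style.haveILetI false
set_option linter.unusedSectionVars false
set_option backward.isDefEq.respectTransparency false
set_option backward.isDefEq.respectTransparency.types false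

universe u

open CategoryTheory CategoryTheory.Limits AlgebraicGeometry IsLocalRing
open Groth.L11.HilbConn Groth.L02.Hilb
open scoped TensorProduct

noncomputable section

namespace Groth.L11.Fogarty

variable {k : Type u} [Field k] [IsAlgClosed k] {Y : Scheme.{u}} {f : Y ⟶ Spec (CommRingCat.of k)}
  [IsSeparated f] [LocallyOfFiniteType f]

theorem connectedSpace_hilb [QuasiCompact f] [ConnectedSpace Y]
    (hfin : ∀ E : Set Y, E.Finite → ∃ U : Y.Opens, IsAffineOpen U ∧ E ⊆ U) (hY : 0 < topologicalKrullDim Y)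
    (n : ℕ) {H : Over (Spec (CommRingCat.of k))} {Z : HilbD.Obj f n H} (hH : HilbD.IsUniversal f n H Z) :
    ConnectedSpace H.left := by
  haveI : IsLocallyNoetherian Y := LocallyOfFiniteType.isLocallyNoetherian f
  haveI : CompactSpace Y := QuasiCompact.compactSpace_of_compactSpace f
  haveI : IsNoetherian Y := {}
  haveI : TopologicalSpace.NoetherianSpace Y := inferInstance
  induction n generalizing H with
  | zero =>
    haveI := lft_of_isUniversal hH hfin
    exact connectedSpace_zero hfin hH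
  | succ n ih =>
    obtain ⟨H₀, Z₀, hH₀⟩ := Groth.Agent.S1166.result f n fun s x _ => by
      obtain ⟨U, hU, hE⟩ := hfin (Set.range x) (Set.finite_range x)
      exact ⟨U, hU, fun i => hE ⟨i, rfl⟩⟩
    haveI := ih hH₀
    haveI := lft_of_isUniversal hH₀ hfin
    haveI := lft_of_isUniversal hH hfin
    exact connectedSpace_succ hH₀ hH hfin (Groth.Agent.S11300.nontrivial_component hY)

include f in
theorem exists_closedPoints (n : ℕ) [IrreducibleSpace Y] (hY : 0 < topologicalKrullDim Y) :
    ∃ y : Fin n → Y, Function.Injective y ∧ ∀ i, IsClosed ({y i} : Set Y) := by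
  haveI : JacobsonSpace Y := LocallyOfFiniteType.jacobsonSpace f
  have hinf : (closedPoints Y).Infinite := fun hfin => by
    have huniv : (Set.univ : Set Y) = closedPoints Y := by
      refine (Set.eq_univ_of_univ_subset ?_).symm
      rw [← closure_closedPoints (X := Y)]
      refine closure_minimal subset_rfl ?_
      rw [← Set.biUnion_of_singleton (closedPoints Y)]
      exact hfin.isClosed_biUnion fun y hy => hy
    haveI : Finite Y := Set.finite_univ_iff.1 (huniv ▸ hfin)
    haveI : T1Space Y := ⟨fun y => (huniv ▸ trivial : y ∈ closedPoints Y)⟩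
    exact absurd hY (not_lt.2 (topologicalKrullDim_zero_of_discreteTopology Y))
  exact ⟨fun i => (hinf.natEmbedding _ i).1,
    fun i j h => Fin.val_injective ((hinf.natEmbedding _).injective (Subtype.ext h)),
    fun i => (hinf.natEmbedding _ i).2⟩

theorem le_ker_of_mem_supp (P : Piece f) (χ : P.B →ₐ[k] k) {a : Ideal (k ⊗[k] P.B)} (h : P.pt χ ∈ P.supp a) :
    a ≤ RingHom.ker (ev χ) := by
  obtain ⟨p, hp, he⟩ := h
  rw [Piece.fst_μ] at he
  have h1 : (PrimeSpectrum.comap (Algebra.TensorProduct.includeRight : P.B →ₐ[k] k ⊗[k] P.B).toRingHom p).asIdeal =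
      RingHom.ker χ := by
    rw [P.j.isOpenEmbedding.injective he]
    exact asIdeal_comap_closedPoint χ
  intro t ht
  obtain ⟨b, rfl⟩ : ∃ b : P.B, (1 : k) ⊗ₜ[k] b = t :=
    ⟨Algebra.TensorProduct.lid k P.B t, (Algebra.TensorProduct.lid k P.B).symm_apply_apply t⟩
  have h2 : b ∈ RingHom.ker χ := h1.le (hp ht)
  rw [RingHom.mem_ker, ev_tmul, one_mul]
  exact h2

theorem cotangent_quotient {R : Type u} [CommRing R] [IsLocalRing R] [IsNoetherianRing R] [Algebra k R]
    (χ : R →ₐ[k] k) [IsLocalRing (R ⧸ maximalIdeal R ^ 2)] :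
    Module.Finite k ((maximalIdeal (R ⧸ maximalIdeal R ^ 2)).restrictScalars k) ∧
      Module.finrank k ((maximalIdeal (R ⧸ maximalIdeal R ^ 2)).restrictScalars k) =
        (maximalIdeal R).spanFinrank := by
  have hmap : (maximalIdeal R).cotangentIdeal = (maximalIdeal R).map (Ideal.Quotient.mk (maximalIdeal R ^ 2)) := by
    ext z
    obtain ⟨z, rfl⟩ := Ideal.Quotient.mk_surjective z
    rw [Ideal.mk_mem_cotangentIdeal, Ideal.mem_map_iff_of_surjective _ Ideal.Quotient.mk_surjective]
    refine ⟨fun h => ⟨z, h, rfl⟩, fun ⟨w, hw, e⟩ => ?_⟩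
    simpa using sub_mem hw (Ideal.pow_le_self two_ne_zero (Ideal.Quotient.eq.1 e))
  have hmax : (maximalIdeal R).cotangentIdeal = maximalIdeal (R ⧸ maximalIdeal R ^ 2) :=
    hmap.trans <| map_maximalIdeal _ ((Ideal.pow_le_self two_ne_zero).trans_lt (maximalIdeal.isMaximal R).ne_top.lt_top).ne
  let e₀ := (maximalIdeal R).cotangentEquivIdeal
  let e : CotangentSpace R ≃ₗ[k] (maximalIdeal (R ⧸ maximalIdeal R ^ 2)).restrictScalars k :=
    { toFun := fun z => ⟨(e₀ z : R ⧸ maximalIdeal R ^ 2), hmax.le (e₀ z).2⟩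
      map_add' := fun a b => Subtype.ext (by simp)
      map_smul' := fun c a => Subtype.ext (by
        show (e₀ (c • a) : R ⧸ maximalIdeal R ^ 2) = c • (e₀ a : R ⧸ maximalIdeal R ^ 2)
        rw [← IsScalarTower.algebraMap_smul R c a, map_smul]
        exact IsScalarTower.algebraMap_smul R c (e₀ a : R ⧸ maximalIdeal R ^ 2))
      invFun := fun z => e₀.symm ⟨z, hmax.ge z.2⟩
      left_inv := fun z => e₀.symm_apply_apply z
      right_inv := fun z => Subtype.ext (by simp) }
  have hbij : Function.Surjective (Algebra.linearMap k (ResidueField R)) := fun z => by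
    obtain ⟨s, rfl⟩ := IsLocalRing.residue_surjective z
    refine ⟨χ s, ?_⟩
    show IsLocalRing.residue R (algebraMap k R (χ s)) = _
    refine Ideal.Quotient.eq.2 ?_
    rw [← ker_eq_maximalIdeal χ, RingHom.mem_ker, map_sub, AlgHom.commutes]
    exact sub_self _
  haveI : Module.Finite k (ResidueField R) := Module.Finite.of_surjective _ hbij
  haveI : IsScalarTower k (ResidueField R) (CotangentSpace R) := IsScalarTower.of_algebraMap_smul fun c z => by
    rw [IsScalarTower.algebraMap_apply k R (ResidueField R), ← IsScalarTower.algebraMap_smul R c z]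
    exact IsScalarTower.algebraMap_smul (ResidueField R) (algebraMap k R c) z
  haveI : Module.Finite k (CotangentSpace R) := Module.Finite.trans (ResidueField R) _
  exact ⟨Module.Finite.equiv e, e.finrank_eq.symm.trans (finrank_cotangentSpace_eq χ)⟩

/-- The tangent space at `n` distinct points. -/
theorem spanFinrank_stalk {n : ℕ} {H : Over (Spec (CommRingCat.of k))} {Z : HilbD.Obj f n H}
    [LocallyOfFiniteType H.hom] (hH : HilbD.IsUniversal f n H Z)
    (hfin : ∀ E : Set Y, E.Finite → ∃ U : Y.Opens, IsAffineOpen U ∧ E ⊆ U)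
    (hreg : ∀ y : Y, IsClosed ({y} : Set Y) → IsRegularLocalRing (Y.presheaf.stalk y) ∧
      ringKrullDim (Y.presheaf.stalk y) = 2)
    (x : TA (k := k) k ⟶ H) (y : Fin n → Y) (hy : Function.Injective y) (hyc : ∀ i, IsClosed ({y i} : Set Y))
    (hyx : ∀ i, y i ∈ suppPt Z x) :
    (maximalIdeal (H.left.presheaf.stalk (x.left p₀))).spanFinrank = 2 * n := by
  let h : H.left := x.left p₀
  obtain ⟨χ, hχ⟩ : ∃ χ : H.left.presheaf.stalk h ⟶ CommRingCat.of k, Spec.map χ ≫ H.left.fromSpecStalk h = x.left :=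
    exists_stalk_hom (A := CommRingCat.of k) x.left h rfl
  obtain ⟨κ, hκ⟩ : ∃ κ : CommRingCat.of k ⟶ H.left.presheaf.stalk h, Spec.map κ = H.left.fromSpecStalk h ≫ H.hom :=
    ⟨Spec.preimage _, Spec.map_preimage _⟩
  letI : Algebra k (H.left.presheaf.stalk h) := κ.hom.toAlgebra
  have hκχ : κ ≫ χ = 𝟙 _ := by
    apply Spec.map_injective
    rw [Spec.map_comp, hκ, reassoc_of% hχ, Over.w x, TA_hom_eq, Spec.map_id]
    rfl
  let χR : H.left.presheaf.stalk h →ₐ[k] k :=
    { χ.hom with commutes' := RingHom.congr_fun (congrArg CommRingCat.Hom.hom hκχ) }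
  haveI : IsLocallyNoetherian H.left := LocallyOfFiniteType.isLocallyNoetherian H.hom
  let C := H.left.presheaf.stalk h ⧸ maximalIdeal (H.left.presheaf.stalk h) ^ 2
  have hne : maximalIdeal (H.left.presheaf.stalk h) ^ 2 ≠ ⊤ :=
    ((Ideal.pow_le_self two_ne_zero).trans_lt (maximalIdeal.isMaximal _).ne_top.lt_top).ne
  haveI : Nontrivial C := Ideal.Quotient.nontrivial_iff.2 hne
  haveI : IsLocalRing C := IsLocalRing.of_surjective' _ Ideal.Quotient.mk_surjective
  have hN : maximalIdeal C * maximalIdeal C = ⊥ := by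
    rw [← map_maximalIdeal _ hne, ← Ideal.map_mul, ← pow_two, Ideal.map_quotient_self]
  haveI : IsArtinianRing C :=
    (isArtinianRing_iff_isNilpotent_maximalIdeal C).2 ⟨2, (pow_two (maximalIdeal C)).trans hN⟩
  have hχm : ∀ r ∈ maximalIdeal (H.left.presheaf.stalk h), χR r = 0 := fun r hr =>
    (ker_eq_maximalIdeal χR).ge hr
  let π : C →ₐ[k] k := Ideal.Quotient.liftₐ _ χR fun r hr => hχm r (Ideal.pow_le_self two_ne_zero hr)
  -- the family over `C`
  let y₂ : TA (k := k) C ⟶ H :=
    Over.homMk (Spec.map (CommRingCat.ofHom (Ideal.Quotient.mk _)) ≫ H.left.fromSpecStalk h) (by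
      rw [Category.assoc, ← hκ, ← Spec.map_comp]
      show _ = Spec.map (CommRingCat.ofHom (algebraMap k C)) ≫ 𝟙 _
      rw [Category.comp_id]
      rfl)
  obtain ⟨P, K₂, hK₂, hK₂e, hyP⟩ := exists_piece_fam hfin (Set.finite_range y)
    (HilbD.pull f y₂ Z.1) (isFinLocFreeOfDeg_pull f y₂ Z.1 Z.2)
  have hy₂ : toH hH P hK₂ = y₂ := hom_ext_of_isUniversal f hH _ _ (by rw [pull_toH, hK₂e])
  have hx : toH hH P (hK₂.map π) = x := by
    rw [← toH_map hH P hK₂ π, hy₂]
    refine Over.OverMorphism.ext ?_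
    show Spec.map _ ≫ Spec.map _ ≫ H.left.fromSpecStalk h = _
    rw [← Spec.map_comp_assoc]
    exact hχ
  choose χp hχp using fun i => exists_char P (hyc i) (hyP ⟨i, rfl⟩)
  have hinj : Function.Injective χp := fun i j e => hy (by rw [← hχp i, ← hχp j, e])
  have hle : ∀ i, K₂.map (tmap P.B π) ≤ RingHom.ker (ev (χp i)) := fun i => by
    refine le_ker_of_mem_supp P (χp i) ?_
    rw [hχp, ← suppPt_toH hH P (hK₂.map π), hx]
    exact hyx i
  obtain ⟨X, hX, hKX⟩ := exists_sections_of_points π hK₂ χp hinj hle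
  have hdπ : Function.Injective fun i => π.comp (X i) := by simpa only [hX] using hinj
  have hmap : ∀ ψ : C →ₐ[k] DualNumber k, dfst.comp ψ = π →
      K₂.map (tmap P.B ψ) = famPts fun i => ψ.comp (X i) := fun ψ hψ =>
    (congrArg (Ideal.map (tmap P.B ψ)) hKX).trans (map_famPts π dfst ψ hψ hdπ)
  have hTψ : ∀ ψ : C →ₐ[k] DualNumber k, Spec.map (CommRingCat.ofHom
      (ψ.toRingHom.comp (Ideal.Quotient.mk _))) ≫ H.left.fromSpecStalk h = (toH hH P (hK₂.map ψ)).left := fun ψ => by
    rw [← toH_map hH P hK₂ ψ, hy₂, CommRingCat.ofHom_comp, Spec.map_comp, Category.assoc]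
    rfl
  have hext : ∀ ψ ψ' : C →ₐ[k] DualNumber k, dfst.comp ψ = π → dfst.comp ψ' = π →
      (∀ i, ψ.comp (X i) = ψ'.comp (X i)) → ψ = ψ' := fun ψ ψ' hψ hψ' he => by
    have h1 : K₂.map (tmap P.B ψ) = K₂.map (tmap P.B ψ') := by
      rw [hmap ψ hψ, hmap ψ' hψ', funext he]
    have h2 := (hTψ ψ).trans ((congrArg CommaMorphism.left
      (toH_congr hH P h1 (hK₂.map ψ) (hK₂.map ψ'))).trans (hTψ ψ').symm)
    rw [cancel_mono] at h2
    refine AlgHom.ext fun c => ?_
    obtain ⟨c, rfl⟩ := Ideal.Quotient.mk_surjective c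
    exact RingHom.congr_fun (congrArg CommRingCat.Hom.hom (Spec.map_injective h2)) c
  have hlift : ∀ Z' : Fin n → P.B →ₐ[k] DualNumber k, (∀ i, dfst.comp (Z' i) = χp i) →
      ∃ ψ : C →ₐ[k] DualNumber k, dfst.comp ψ = π ∧ ∀ i, ψ.comp (X i) = Z' i := by
    intro Z' hZ'
    have hdZ : Function.Injective fun i => dfst.comp (Z' i) := by simpa only [hZ'] using hinj
    have hK' := isFam_famPts (dfst (k := k)) hdZ
    let y' := toH hH P hK'
    have hy' : Tmap dfst ≫ y' = x := by
      rw [toH_map, ← hx]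
      refine toH_congr hH P ?_ _ _
      refine (map_famPts (dfst (k := k)) (AlgHom.id k k) dfst (AlgHom.id_comp _) hdZ).trans ?_
      rw [hKX, map_famPts π (AlgHom.id k k) π (AlgHom.id_comp _) hdπ]
      exact congrArg famPts (funext fun i => (hZ' i).trans (hX i).symm)
    have hy'l : Spec.map (CommRingCat.ofHom (dfst (k := k)).toRingHom) ≫ y'.left = x.left :=
      congrArg CommaMorphism.left hy'
    have hcl : y'.left (closedPoint (DualNumber k)) = h := by
      haveI : IsLocalHom (dfst (k := k)).toRingHom :=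
        IsLocalHom.of_surjective _ fun c => ⟨algebraMap k _ c, (dfst (k := k)).commutes c⟩
      have h1 := congrArg (fun ψ : Spec (CommRingCat.of k) ⟶ H.left => ψ (closedPoint k)) hy'l
      simp only [Scheme.Hom.comp_apply] at h1
      erw [Spec_closedPoint] at h1
      exact h1
    obtain ⟨g, hg⟩ := exists_stalk_hom (A := CommRingCat.of (DualNumber k)) y'.left h hcl
    have hgχ : g ≫ CommRingCat.ofHom (dfst (k := k)).toRingHom = χ := by
      apply Spec.map_injective
      rw [← cancel_mono (H.left.fromSpecStalk h), Spec.map_comp, Category.assoc, hg, hy'l]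
      exact hχ.symm
    have hgκ : κ ≫ g = CommRingCat.ofHom (algebraMap k (DualNumber k)) := by
      apply Spec.map_injective
      rw [Spec.map_comp, hκ, reassoc_of% hg]
      refine (Over.w y').trans ?_
      show Spec.map _ ≫ 𝟙 _ = _
      rw [Category.comp_id]
    let gA : H.left.presheaf.stalk h →ₐ[k] DualNumber k :=
      { g.hom with commutes' := RingHom.congr_fun (congrArg CommRingCat.Hom.hom hgκ) }
    have hfst : ∀ r, TrivSqZeroExt.fst (gA r) = χR r := fun r =>
      RingHom.congr_fun (congrArg CommRingCat.Hom.hom hgχ) r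
    have hkill : ∀ r ∈ maximalIdeal (H.left.presheaf.stalk h) ^ 2, gA r = 0 := fun r hr => by
      rw [pow_two] at hr
      refine Submodule.mul_induction_on hr (fun a ha b hb => ?_) fun a b ha hb => by rw [map_add, ha, hb, add_zero]
      rw [map_mul]
      exact TrivSqZeroExt.ext (by simp [hfst, hχm _ ha]) (by simp [hfst, hχm _ ha, hχm _ hb])
    let ψ : C →ₐ[k] DualNumber k := Ideal.Quotient.liftₐ _ gA hkill
    have hψ : dfst.comp ψ = π := AlgHom.ext fun c => by
      obtain ⟨c, rfl⟩ := Ideal.Quotient.mk_surjective c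
      exact hfst c
    refine ⟨ψ, hψ, fun i => ?_⟩
    have h2 : toH hH P (hK₂.map ψ) = y' := Over.OverMorphism.ext ((hTψ ψ).symm.trans hg)
    have h3 := (hmap ψ hψ).symm.trans (eq_of_toH_eq hH P (hK₂.map ψ) hK' h2)
    have hd' : Function.Injective fun i => dfst.comp (ψ.comp (X i)) := by
      simpa only [← AlgHom.comp_assoc, hψ] using hdπ
    refine (sections_unique dfst hd' (Z' i) (h3.le.trans (iInf_le _ i)) i ?_).symm
    rw [hZ', ← AlgHom.comp_assoc, hψ, hX]
  haveI := (cotangent_quotient χR).1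
  rw [← (cotangent_quotient χR).2]
  refine finrank_maximalIdeal_eq π hN χp X hX two_pos (fun i => ?_) hext hlift
  refine finrank_cotangent_ker (χp i) fun p hp => ?_
  obtain ⟨e⟩ := exists_ringEquiv_stalk P p
  obtain ⟨h1, h2⟩ := hreg _ (isClosed_piece_point P p)
  haveI := h1
  exact ⟨IsRegularLocalRing.of_ringEquiv e, (ringKrullDim_eq_of_ringEquiv e).symm.trans h2⟩

/-- Fogarty's theorem. -/
theorem fogarty [QuasiCompact f] [ConnectedSpace Y]
    (hfin : ∀ E : Set Y, E.Finite → ∃ U : Y.Opens, IsAffineOpen U ∧ E ⊆ U)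
    (hreg : ∀ y : Y, IsRegularLocalRing (Y.presheaf.stalk y)) (hdim : topologicalKrullDim Y = 2)
    (n : ℕ) {H : Over (Spec (CommRingCat.of k))} {Z : HilbD.Obj f n H} (hH : HilbD.IsUniversal f n H Z) :
    ConnectedSpace H.left ∧ IrreducibleSpace H.left ∧ (∀ h : H.left, IsRegularLocalRing (H.left.presheaf.stalk h)) ∧
      topologicalKrullDim H.left = (2 * n : ℕ) := by
  have hpos : 0 < topologicalKrullDim Y := by rw [hdim]; norm_num
  haveI : IsLocallyNoetherian Y := LocallyOfFiniteType.isLocallyNoetherian f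
  have hdom : ∀ y : Y, IsDomain (Y.presheaf.stalk y) := fun y => by
    haveI := hreg y; exact Groth.L01.isDomain_of_regular _
  haveI : IrreducibleSpace Y := Groth.L02.SchDom.irreducibleSpace_of_connected hdom
  haveI : IsReduced Y := haveI := hdom; isReduced_of_isReduced_stalk Y
  haveI : IsIntegral Y := isIntegral_of_irreducibleSpace_of_isReduced Y
  have hreg' : ∀ y : Y, IsClosed ({y} : Set Y) → IsRegularLocalRing (Y.presheaf.stalk y) ∧
      ringKrullDim (Y.presheaf.stalk y) = 2 := fun y hy => by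
    letI : Y.Over (Spec (CommRingCat.of k)) := ⟨f⟩
    haveI : LocallyOfFiniteType (Y ↘ Spec (CommRingCat.of k)) := inferInstanceAs (LocallyOfFiniteType f)
    exact ⟨hreg y, Groth.L06.NoEmbed.stalk_closed_dim k (n := 2) hdim hy⟩
  haveI := smooth_hilb hH hfin hreg'
  haveI := lft_of_isUniversal hH hfin
  have hregH : ∀ h : H.left, IsRegularLocalRing (H.left.presheaf.stalk h) := fun h => by
    letI : H.left.Over (Spec (CommRingCat.of k)) := ⟨H.hom⟩
    haveI : Smooth (H.left ↘ Spec (CommRingCat.of k)) := inferInstanceAs (Smooth H.hom)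
    exact Groth.Agent.S1535.result k H.left h
  haveI hconn := connectedSpace_hilb hfin hpos n hH
  have hdomH : ∀ h : H.left, IsDomain (H.left.presheaf.stalk h) := fun h => by
    haveI := hregH h; exact Groth.L01.isDomain_of_regular _
  haveI : IsLocallyNoetherian H.left := LocallyOfFiniteType.isLocallyNoetherian H.hom
  haveI hirr : IrreducibleSpace H.left := Groth.L02.SchDom.irreducibleSpace_of_connected hdomH
  haveI : IsReduced H.left := haveI := hdomH; isReduced_of_isReduced_stalk H.left
  haveI : IsIntegral H.left := isIntegral_of_irreducibleSpace_of_isReduced H.left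
  obtain ⟨y, hy, hyc⟩ := exists_closedPoints (f := f) n hpos
  obtain ⟨U, hU, hUy⟩ := hfin _ (Set.finite_range y)
  obtain ⟨P, hP⟩ := exists_piece (f := f) U hU
  choose χ hχ using fun i => exists_char P (hyc i) (by rw [hP]; exact hUy ⟨i, rfl⟩)
  have hd : Function.Injective fun i => (AlgHom.id k k).comp (χ i) := fun i j e => by
    simp only [AlgHom.id_comp] at e
    exact hy (by rw [← hχ i, ← hχ j, e])
  let x := toH hH P (isFam_famPts (AlgHom.id k k) hd)
  have hx := spanFinrank_stalk hH hfin hreg' x y hy hyc fun i => by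
    rw [suppPt_toH, ← hχ i]
    exact Piece.mem_supp_of_le P (χ i) (iInf_le _ i)
  refine ⟨hconn, hirr, hregH, ?_⟩
  letI : H.left.Over (Spec (CommRingCat.of k)) := ⟨H.hom⟩
  haveI : LocallyOfFiniteType (H.left ↘ Spec (CommRingCat.of k)) := inferInstanceAs (LocallyOfFiniteType H.hom)
  obtain ⟨m, hm, -, -⟩ := Groth.L22.SchemeDim.exists_dim_eq_trdeg k H.left
  have h1 := Groth.L06.NoEmbed.stalk_closed_dim k hm (isClosed_point x)
  have h2 := (hregH (x.left p₀)).spanFinrank_maximalIdeal
  rw [hx, h1] at h2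
  rw [hm]
  exact h2.symm

end Groth.L11.Fogarty
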