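import Groth.Agent.L11.Fogarty.Global
import Mathlib.RingTheory.Idempotents
import Mathlib.RingTheory.OrzechProperty

/-!
# Families of distinct points over local Artinian algebras
-/

set_option autoImplicit false
set_option linter.style.haveILetI false
set_option linter.unusedSectionVars false
set_option backward.isDefEq.respectTransparency false
set_option backward.isDefEq.respectTransparency.types false

universe u

open scoped TensorProduct
open IsLocalRing Groth.L11.HilbConn

noncomputable section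

namespace Groth.L11.Fogarty

variable {k : Type u} [Field k] {C B : Type u} [CommRing C] [Algebra k C] [IsLocalRing C] [CommRing B] [Algebra k B]
  {n : ℕ}

/-- The kernel of several sections. -/
def famPts (X : Fin n → B →ₐ[k] C) : Ideal (C ⊗[k] B) := ⨅ i, RingHom.ker (ev (X i))

theorem mem_famPts {X : Fin n → B →ₐ[k] C} {t : C ⊗[k] B} : t ∈ famPts X ↔ ∀ i, ev (X i) t = 0 := by
  simp only [famPts, Submodule.mem_iInf, RingHom.mem_ker]

theorem isUnit_of_res (π : C →ₐ[k] k) {c : C} (h : π c ≠ 0) : IsUnit c := by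
  by_contra hc
  exact h ((ker_eq_maximalIdeal π).ge hc : c ∈ RingHom.ker π)

theorem exists_sep (π : C →ₐ[k] k) {X : Fin n → B →ₐ[k] C}
    (hd : Function.Injective fun i => π.comp (X i)) (i : Fin n) :
    ∃ t : C ⊗[k] B, IsUnit (ev (X i) t) ∧ ∀ j, j ≠ i → ev (X j) t = 0 := by
  classical
  have h1 : ∀ j, j ≠ i → ∃ t : C ⊗[k] B, IsUnit (ev (X i) t) ∧ ev (X j) t = 0 := fun j hj => by
    have hne : π.comp (X i) ≠ π.comp (X j) := fun e => hj (hd e.symm)
    obtain ⟨b, hb⟩ : ∃ b, π (X i b) ≠ π (X j b) := by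
      by_contra hcon
      push Not at hcon
      exact hne (AlgHom.ext hcon)
    refine ⟨(1 : C) ⊗ₜ[k] b - X j b ⊗ₜ[k] (1 : B), ?_, ?_⟩
    · rw [map_sub, ev_tmul, ev_tmul, map_one, one_mul, mul_one]
      exact isUnit_of_res π (by rw [map_sub, sub_ne_zero]; exact hb)
    · rw [map_sub, ev_tmul, ev_tmul, map_one, one_mul, mul_one, sub_self]
  choose t ht ht' using h1
  refine ⟨∏ j ∈ (Finset.univ.erase i).attach, t j.1 (Finset.ne_of_mem_erase j.2), ?_, fun j hj => ?_⟩
  · rw [map_prod]
    exact Submonoid.prod_mem (IsUnit.submonoid C) fun j _ => ht _ _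
  · rw [map_prod]
    exact Finset.prod_eq_zero (i := ⟨j, Finset.mem_erase.2 ⟨hj, Finset.mem_univ _⟩⟩) (Finset.mem_attach _ _) (ht' _ _)

/-- Evaluation at several sections. -/
def evPi (X : Fin n → B →ₐ[k] C) : C ⊗[k] B →ₐ[C] (Fin n → C) := Pi.algHom _ _ fun i => ev (X i)

theorem ker_evPi (X : Fin n → B →ₐ[k] C) : RingHom.ker (evPi X) = famPts X := by
  ext t
  rw [RingHom.mem_ker, mem_famPts]
  exact funext_iff

theorem evPi_surjective (π : C →ₐ[k] k) {X : Fin n → B →ₐ[k] C}
    (hd : Function.Injective fun i => π.comp (X i)) : Function.Surjective (evPi X) := fun v => by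
  classical
  choose t ht ht' using exists_sep π hd
  choose w hw using fun i => (ht i).exists_left_inv
  refine ⟨∑ i, algebraMap C _ (v i * w i) * t i, funext fun j => ?_⟩
  show ev (X j) _ = _
  rw [map_sum, Finset.sum_eq_single j]
  · rw [map_mul, AlgHom.commutes, Algebra.algebraMap_self_apply, mul_assoc, hw, mul_one]
  · intro i _ hij
    rw [map_mul, ht' i j (Ne.symm hij), mul_zero]
  · exact fun h => absurd (Finset.mem_univ _) h

theorem isFam_famPts (π : C →ₐ[k] k) {X : Fin n → B →ₐ[k] C}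
    (hd : Function.Injective fun i => π.comp (X i)) : IsFam n (famPts X) := by
  let e := ((Ideal.quotientEquivAlgOfEq C (ker_evPi X)).symm.trans
    (Ideal.quotientKerAlgEquivOfSurjective (evPi_surjective π hd))).toLinearEquiv
  haveI : Module.Finite C ((C ⊗[k] B) ⧸ famPts X) := Module.Finite.equiv e.symm
  haveI : Module.Free C ((C ⊗[k] B) ⧸ famPts X) := Module.Free.of_equiv e.symm
  exact ⟨inferInstance, inferInstance, fun p => by
    rw [Module.rankAtStalk_eq_finrank_of_free, e.finrank_eq, Module.finrank_fin_fun]; rfl⟩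

/-- Comparable families of the same degree over a local ring are equal. -/
theorem fam_eq_of_le {K K' : Ideal (C ⊗[k] B)} (hK : IsFam n K) (hK' : IsFam n K') (h : K ≤ K') : K = K' := by
  haveI := hK.fin; haveI := hK.proj; haveI := hK'.fin; haveI := hK'.proj
  haveI : Module.Free C ((C ⊗[k] B) ⧸ K) := Module.free_of_flat_of_isLocalRing
  haveI : Module.Free C ((C ⊗[k] B) ⧸ K') := Module.free_of_flat_of_isLocalRing
  have hr : ∀ {L : Ideal (C ⊗[k] B)} (_ : IsFam n L) [Module.Free C ((C ⊗[k] B) ⧸ L)] [Module.Finite C ((C ⊗[k] B) ⧸ L)],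
      Module.finrank C ((C ⊗[k] B) ⧸ L) = n := fun {L} hL _ _ => by
    have := hL.rank (IsLocalRing.closedPoint C)
    rw [Module.rankAtStalk_eq_finrank_of_free] at this
    exact_mod_cast this
  let e : ((C ⊗[k] B) ⧸ K') ≃ₗ[C] (C ⊗[k] B) ⧸ K :=
    LinearEquiv.ofFinrankEq _ _ ((hr hK').trans (hr hK).symm)
  let g := (Ideal.Quotient.factorₐ C h).toLinearMap
  have hg : Function.Surjective g := Ideal.Quotient.factor_surjective h
  have hinj : Function.Injective (e.toLinearMap ∘ₗ g) :=
    OrzechProperty.injective_of_surjective_endomorphism _ (e.surjective.comp hg)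
  refine le_antisymm h fun t ht => Ideal.Quotient.eq_zero_iff_mem.1 (hinj ?_)
  show e (g (Ideal.Quotient.mk K t)) = e (g 0)
  congr 1
  rw [map_zero]
  exact Ideal.Quotient.eq_zero_iff_mem.2 ht

theorem ev_res (π : C →ₐ[k] k) (X : B →ₐ[k] C) (t : C ⊗[k] B) : π (ev X t) = ev (π.comp X) (tmap B π t) :=
  (ev_tmap π X t).symm

theorem map_famPts {C' : Type u} [CommRing C'] [Algebra k C'] [IsLocalRing C'] (π : C →ₐ[k] k) (π' : C' →ₐ[k] k)
    (ψ : C →ₐ[k] C') (hψ : π'.comp ψ = π) {X : Fin n → B →ₐ[k] C}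
    (hd : Function.Injective fun i => π.comp (X i)) :
    (famPts X).map (tmap B ψ) = famPts fun i => ψ.comp (X i) := by
  have hd' : Function.Injective fun i => π'.comp (ψ.comp (X i)) := by
    simpa only [← AlgHom.comp_assoc, hψ] using hd
  refine fam_eq_of_le ((isFam_famPts π hd).map ψ) (isFam_famPts π' hd') (Ideal.map_le_iff_le_comap.2 fun t ht => ?_)
  rw [Ideal.mem_comap, mem_famPts]
  intro i
  rw [ev_tmap, mem_famPts.1 ht i, map_zero]

theorem sections_unique (π : C →ₐ[k] k) {X : Fin n → B →ₐ[k] C} (hd : Function.Injective fun i => π.comp (X i))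
    (Y : B →ₐ[k] C) (hY : famPts X ≤ RingHom.ker (ev Y)) (i : Fin n) (hi : π.comp Y = π.comp (X i)) :
    Y = X i := by
  obtain ⟨t, ht, ht'⟩ := exists_sep π hd i
  have hu : IsUnit (ev Y t) := by
    refine isUnit_of_res π ?_
    rw [ev_res, hi, ← ev_res]
    exact (ht.map π).ne_zero
  refine AlgHom.ext fun b => ?_
  have h1 : ((1 : C) ⊗ₜ[k] b - X i b ⊗ₜ[k] (1 : B)) * t ∈ famPts X := mem_famPts.2 fun j => by
    rw [map_mul]
    rcases eq_or_ne j i with rfl | hj
    · rw [map_sub, ev_tmul, ev_tmul, map_one, one_mul, mul_one, sub_self, zero_mul]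
    · rw [ht' j hj, mul_zero]
  have h2 := hY h1
  rw [RingHom.mem_ker, map_mul, map_sub, ev_tmul, ev_tmul, map_one, one_mul, mul_one] at h2
  exact sub_eq_zero.1 ((IsUnit.mul_left_eq_zero hu).1 h2)

/-- Families near distinct points consist of sections. -/
theorem exists_sections_of_points [IsArtinianRing C] (π : C →ₐ[k] k) {K : Ideal (C ⊗[k] B)} (hK : IsFam n K)
    (χ : Fin n → B →ₐ[k] k) (hχ : Function.Injective χ)
    (hle : ∀ i, K.map (tmap B π) ≤ RingHom.ker (ev (χ i))) :
    ∃ X : Fin n → B →ₐ[k] C, (∀ i, π.comp (X i) = χ i) ∧ K = famPts X := by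
  classical
  haveI := hK.fin; haveI := hK.proj
  haveI : Module.Free C ((C ⊗[k] B) ⧸ K) := Module.free_of_flat_of_isLocalRing
  have hd₀ : Function.Injective fun i => (AlgHom.id k k).comp (χ i) := by simpa only [AlgHom.id_comp] using hχ
  have hmapK : K.map (tmap B π) = famPts χ :=
    fam_eq_of_le (hK.map π) (isFam_famPts (AlgHom.id k k) hd₀) (le_iInf hle)
  let F : C ⊗[k] B →ₐ[k] (Fin n → k) := ((evPi χ).restrictScalars k).comp (tmap B π)
  have hFK : ∀ t ∈ K, F t = 0 := fun t ht => by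
    have h1 : tmap B π t ∈ RingHom.ker (evPi χ) := by
      rw [ker_evPi, ← hmapK]; exact Ideal.mem_map_of_mem _ ht
    exact h1
  let Ψ : ((C ⊗[k] B) ⧸ K) →ₐ[k] (Fin n → k) := Ideal.Quotient.liftₐ K F hFK
  have hΨs : Function.Surjective Ψ := fun v => by
    obtain ⟨t, ht⟩ := (evPi_surjective (AlgHom.id k k) hd₀).comp (tmap_surjective π) v
    exact ⟨Ideal.Quotient.mk K t, ht⟩
  let mI : Ideal ((C ⊗[k] B) ⧸ K) := (maximalIdeal C).map (algebraMap C _)
  have hker : RingHom.ker Ψ ≤ mI := fun z hz => by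
    obtain ⟨t, rfl⟩ := Ideal.Quotient.mk_surjective z
    have h1 : tmap B π t ∈ famPts χ := (ker_evPi χ).le hz
    rw [← hmapK, Ideal.mem_map_iff_of_surjective _ (tmap_surjective π)] at h1
    obtain ⟨t₀, ht₀, he⟩ := h1
    have h2 : t - t₀ ∈ RingHom.ker (tmap B π) := by rw [RingHom.mem_ker, map_sub, he, sub_self]
    rw [show RingHom.ker (tmap B π) = _ from Algebra.TensorProduct.rTensor_ker (R := k) (C := B) π
      fun c => ⟨algebraMap k C c, π.commutes c⟩, show RingHom.ker π = maximalIdeal C from ker_eq_maximalIdeal π] at h2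
    have h3 := Ideal.mem_map_of_mem (Ideal.Quotient.mk K) h2
    rw [map_sub, Ideal.Quotient.eq_zero_iff_mem.2 ht₀, sub_zero] at h3
    have h4 : Ideal.map (Ideal.Quotient.mk K) ((maximalIdeal C).map
        (algebraMap C (C ⊗[k] B))) = mI := by rw [Ideal.map_map]; rfl
    rw [← h4]
    exact h3
  obtain ⟨N, hN⟩ := IsArtinianRing.isNilpotent_jacobson_bot (R := C)
  rw [IsLocalRing.jacobson_eq_maximalIdeal ⊥ bot_ne_top] at hN
  have hnil : ∀ z ∈ RingHom.ker Ψ.toRingHom, IsNilpotent z := fun z hz => ⟨N, by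
    have h1 := Ideal.pow_mem_pow (hker hz) N
    rwa [← Ideal.map_pow, hN, Ideal.zero_eq_bot, Ideal.map_bot, Ideal.mem_bot] at h1⟩
  obtain ⟨e, he, hee⟩ := (CompleteOrthogonalIdempotents.single (fun _ : Fin n => k)).lift_of_isNilpotent_ker
    Ψ.toRingHom hnil (fun i => hΨs _)
  let L : (Fin n → C) →ₗ[C] (C ⊗[k] B) ⧸ K := Fintype.linearCombination C e
  have hLapp : ∀ c, L c = ∑ i, c i • e i := fun c => rfl
  have hΨsmul : ∀ (c : C) z, Ψ (c • z) = fun i => π c * Ψ z i := fun c z => by
    obtain ⟨t, rfl⟩ := Ideal.Quotient.mk_surjective z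
    rw [show c • Ideal.Quotient.mk K t = Ideal.Quotient.mk K ((c ⊗ₜ[k] (1 : B)) * t) by
      rw [map_mul]; exact smul_quot K c (Ideal.Quotient.mk K t)]
    funext i
    show ev (χ i) (tmap B π ((c ⊗ₜ[k] (1 : B)) * t)) = π c * ev (χ i) (tmap B π t)
    simp
  have hΨe : ∀ i, Ψ (e i) = Pi.single i 1 := fun i => congrFun hee i
  have hΨL : ∀ c, Ψ (L c) = fun i => π (c i) := fun c => by
    rw [hLapp, map_sum]
    funext j
    rw [Finset.sum_apply, Finset.sum_eq_single j]
    · rw [hΨsmul, hΨe]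
      show π (c j) * (Pi.single j (1 : k) : Fin n → k) j = π (c j)
      rw [Pi.single_eq_same, mul_one]
    · intro i _ hij
      rw [hΨsmul, hΨe]
      show π (c i) * (Pi.single i (1 : k) : Fin n → k) j = 0
      rw [Pi.single_eq_of_ne (Ne.symm hij), mul_zero]
    · exact fun h => absurd (Finset.mem_univ _) h
  have hLs : LinearMap.range L = ⊤ := by
    refine nakayama_nilpotent (I := maximalIdeal C) ⟨N, hN⟩ _ fun z _ => ?_
    let v : Fin n → C := fun i => algebraMap k C (Ψ z i)
    have h1 : z - L v ∈ RingHom.ker Ψ := by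
      rw [RingHom.mem_ker, map_sub, hΨL, sub_eq_zero]
      funext i
      show _ = π (algebraMap k C _)
      rw [AlgHom.commutes]; rfl
    have h2 := hker h1
    rw [show mI = (maximalIdeal C).map (algebraMap C _) from rfl, ← Submodule.restrictScalars_mem C,
      ← Ideal.smul_top_eq_map] at h2
    exact Submodule.mem_sup.2 ⟨_, ⟨v, rfl⟩, _, h2, add_sub_cancel _ _⟩
  have hmul : ∀ c d, L (c * d) = L c * L d := fun c d => by
    rw [hLapp, hLapp, hLapp, Finset.sum_mul_sum]
    refine Finset.sum_congr rfl fun i _ => ?_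
    rw [Finset.sum_eq_single i]
    · rw [smul_mul_smul_comm, (he.idem i).eq, Pi.mul_apply]
    · intro j _ hji
      rw [smul_mul_smul_comm, he.ortho (Ne.symm hji), smul_zero]
    · exact fun h => absurd (Finset.mem_univ _) h
  have hone : L 1 = 1 := by
    rw [hLapp]; simpa using he.complete
  let LA : (Fin n → C) →ₐ[C] (C ⊗[k] B) ⧸ K := AlgHom.ofLinearMap L hone hmul
  have hr : Module.finrank C ((C ⊗[k] B) ⧸ K) = n := by
    have := hK.rank (IsLocalRing.closedPoint C)
    rw [Module.rankAtStalk_eq_finrank_of_free] at this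
    exact_mod_cast this
  let e₀ : ((C ⊗[k] B) ⧸ K) ≃ₗ[C] (Fin n → C) :=
    LinearEquiv.ofFinrankEq _ _ (hr.trans (Module.finrank_fin_fun C).symm)
  have hLsurj : Function.Surjective L := LinearMap.range_eq_top.1 hLs
  have hbij : Function.Bijective LA := ⟨fun a b hab =>
    OrzechProperty.injective_of_surjective_endomorphism (e₀.toLinearMap ∘ₗ L) (e₀.surjective.comp hLsurj)
      (congrArg e₀ hab), hLsurj⟩
  let Λ := (AlgEquiv.ofBijective LA hbij).symm
  let X : Fin n → B →ₐ[k] C := fun i => (((Pi.evalAlgHom C (fun _ : Fin n => C) i).comp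
    (Λ.toAlgHom.comp (Ideal.Quotient.mkₐ C K))).restrictScalars k).comp Algebra.TensorProduct.includeRight
  have hevX : ∀ i t, ev (X i) t = Λ (Ideal.Quotient.mk K t) i := fun i t => by
    induction t using TensorProduct.induction_on with
    | zero => simp
    | tmul c b =>
      rw [ev_tmul, show c ⊗ₜ[k] b = c • ((1 : C) ⊗ₜ[k] b) by rw [TensorProduct.smul_tmul', smul_eq_mul, mul_one],
        ← Ideal.Quotient.mkₐ_eq_mk C, map_smul, map_smul, Pi.smul_apply, smul_eq_mul]
      rfl
    | add u v hu hv => simp only [map_add, hu, hv, Pi.add_apply]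
  have hΨΛ : ∀ z i, π (Λ z i) = Ψ z i := fun z i => by
    conv_rhs => rw [show z = L (Λ z) from ((AlgEquiv.ofBijective LA hbij).apply_symm_apply z).symm]
    rw [hΨL]
  refine ⟨X, fun i => AlgHom.ext fun b => ?_, le_antisymm (fun t ht => mem_famPts.2 fun i => ?_) fun t ht => ?_⟩
  · show π (X i b) = χ i b
    have : X i b = ev (X i) ((1 : C) ⊗ₜ[k] b) := by rw [ev_tmul, one_mul]
    rw [this, hevX, hΨΛ]
    show ev (χ i) (tmap B π ((1 : C) ⊗ₜ[k] b)) = χ i b
    simp
  · rw [hevX, Ideal.Quotient.eq_zero_iff_mem.2 ht, map_zero]; rfl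
  · refine Ideal.Quotient.eq_zero_iff_mem.1 (Λ.injective ?_)
    rw [map_zero]
    funext i
    rw [← hevX]
    exact mem_famPts.1 ht i

end Groth.L11.Fogarty
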