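import Groth.Agent.L11.Fogarty.Global
import Groth.Agent.L11.HilbConn.Start
import Groth.Agent.L16.ProjSpace.BaseChange
import Groth.Agent.S2793
import Mathlib.AlgebraicGeometry.Stalk
import Mathlib.RingTheory.RegularLocalRing.Defs
import Groth.Prelude.Def_RelProj

/-!
# The Hilbert scheme of points of a regular surface is smooth
-/

set_option autoImplicit false
set_option linter.style.haveILetI false
set_option backward.isDefEq.respectTransparency false
set_option backward.isDefEq.respectTransparency.types false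

universe u

open CategoryTheory CategoryTheory.Limits AlgebraicGeometry IsLocalRing
open Groth.L11.HilbConn Groth.L02.Hilb
open scoped TensorProduct

noncomputable section

namespace Groth.L11.Fogarty

variable {k : Type u} [Field k]

/-- Finite sets of points of a quasi-projective scheme lie in affine opens. -/
theorem exists_affine_of_finite {X : Scheme.{u}} {f : X ⟶ Spec (CommRingCat.of k)}
    (hqp : RelProj.IsHQuasiProjective f) (E : Set X) (hE : E.Finite) :
    ∃ U : X.Opens, IsAffineOpen U ∧ E ⊆ U := by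
  obtain ⟨N, i, hi, -, -⟩ := hqp
  haveI := hi
  haveI : IsImmersion (i ≫ (Groth.L16.ProjSpace.isoOver (n := N) k).inv) := inferInstance
  exact Groth.L18.ProjAvoid.exists_affineOpen_of_immersion _ (i ≫ (Groth.L16.ProjSpace.isoOver (n := N) k).inv) E hE

variable {Y : Scheme.{u}} {f : Y ⟶ Spec (CommRingCat.of k)}

theorem isClosed_piece_point [LocallyOfFiniteType f] (P : Piece f) (p : Ideal P.B) [hp : p.IsMaximal] :
    IsClosed ({P.j ⟨p, hp.isPrime⟩} : Set Y) := by
  haveI : JacobsonSpace Y := LocallyOfFiniteType.jacobsonSpace f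
  have h : (⟨p, hp.isPrime⟩ : PrimeSpectrum P.B) ∈ closedPoints (Spec (CommRingCat.of P.B)) :=
    (PrimeSpectrum.isClosed_singleton_iff_isMaximal ⟨p, hp.isPrime⟩).2 hp
  rw [← P.j.isOpenEmbedding.preimage_closedPoints] at h
  exact h

theorem exists_ringEquiv_stalk (P : Piece f) (p : Ideal P.B) [p.IsPrime] :
    Nonempty (Y.presheaf.stalk (P.j ⟨p, inferInstance⟩) ≃+* Localization.AtPrime p) :=
  ⟨(asIso (P.j.stalkMap ⟨p, inferInstance⟩)).commRingCatIsoToRingEquiv.trans
    (AlgebraicGeometry.StructureSheaf.stalkIso P.B ⟨p, inferInstance⟩).toRingEquiv.symm⟩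

theorem exists_stalk_hom {X : Scheme.{u}} {A : CommRingCat.{u}} [IsLocalRing A] (y : Spec A ⟶ X) (h : X)
    (hy : y (closedPoint A) = h) : ∃ g : X.presheaf.stalk h ⟶ A, Spec.map g ≫ X.fromSpecStalk h = y := by
  subst hy
  exact ⟨Scheme.stalkClosedPointTo y, Scheme.Spec_stalkClosedPointTo_fromSpecStalk y⟩

theorem map_maximalIdeal {A : Type u} [CommRing A] [IsLocalRing A] (I : Ideal A) (hI : I ≠ ⊤)
    [IsLocalRing (A ⧸ I)] : (maximalIdeal A).map (Ideal.Quotient.mk I) = maximalIdeal (A ⧸ I) := by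
  rcases Ideal.map_eq_top_or_isMaximal_of_surjective (Ideal.Quotient.mk I) Ideal.Quotient.mk_surjective
    (maximalIdeal.isMaximal A) with htop | hmax
  · have h' := congrArg (Ideal.comap (Ideal.Quotient.mk I)) htop
    rw [Ideal.comap_map_of_surjective _ Ideal.Quotient.mk_surjective, ← RingHom.ker_eq_comap_bot, Ideal.mk_ker,
      sup_eq_left.2 (le_maximalIdeal hI), Ideal.comap_top] at h'
    exact absurd h' (maximalIdeal.isMaximal A).ne_top
  · exact IsLocalRing.eq_maximalIdeal hmax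

theorem exists_residue {A S : Type u} [CommRing A] [IsLocalRing A] [Algebra k A] [CommRing S] [IsLocalRing S]
    (I : Ideal A) (hI : I ≠ ⊤) (χ : S →+* k) (κ : k →+* S) (hκ : ∀ c, χ (κ c) = c) (g₀ : S →+* A ⧸ I)
    (hgκ : ∀ c, g₀ (κ c) = Ideal.Quotient.mk I (algebraMap k A c))
    (hm : ∀ b ∈ maximalIdeal S, g₀ b ∈ (maximalIdeal A).map (Ideal.Quotient.mk I))
    (hres : ∀ a : A, ∃ b : S, g₀ b - Ideal.Quotient.mk I a ∈ (maximalIdeal A).map (Ideal.Quotient.mk I)) :
    Nonempty (A →ₐ[k] k) := by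
  have hbij : Function.Bijective (algebraMap k (ResidueField A)) := by
    refine ⟨(algebraMap k (ResidueField A)).injective, fun z => ?_⟩
    obtain ⟨a, rfl⟩ := IsLocalRing.residue_surjective z
    obtain ⟨b, hb⟩ := hres a
    refine ⟨χ b, ?_⟩
    have h1 : b - κ (χ b) ∈ maximalIdeal S := fun hu => by
      have h2 := hu.map χ
      rw [map_sub, hκ, sub_self] at h2
      exact not_isUnit_zero h2
    have h3 := hm _ h1
    rw [map_sub, hgκ] at h3
    have h4 := sub_mem hb h3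
    rw [show g₀ b - Ideal.Quotient.mk I a - (g₀ b - Ideal.Quotient.mk I (algebraMap k A (χ b))) =
      Ideal.Quotient.mk I (algebraMap k A (χ b) - a) by rw [map_sub]; ring] at h4
    show IsLocalRing.residue A (algebraMap k A (χ b)) = IsLocalRing.residue A a
    refine Ideal.Quotient.eq.2 ?_
    obtain ⟨y, hy, hye⟩ := (Ideal.mem_map_iff_of_surjective _ Ideal.Quotient.mk_surjective).1 h4
    have h5 := le_maximalIdeal hI (Ideal.Quotient.eq.1 hye.symm)
    simpa using add_mem h5 hy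
  exact ⟨(AlgEquiv.ofBijective (Algebra.ofId k (ResidueField A)) hbij).symm.toAlgHom.comp
      (Ideal.Quotient.mkₐ k (maximalIdeal A))⟩

theorem exists_piece_fam [IsSeparated f] [LocallyOfFiniteType f]
    (hfin : ∀ E : Set Y, E.Finite → ∃ U : Y.Opens, IsAffineOpen U ∧ E ⊆ U) {E₀ : Set Y} (hE₀ : E₀.Finite)
    {A : Type u} [CommRing A]
    [Algebra k A] [IsArtinianRing A] (I₀ : (PicF.XT f (TA (k := k) A)).IdealSheafData) {n : ℕ}
    (hI₀ : Mor2.IsFinLocFreeOfDeg n (I₀.subschemeι ≫ PicF.XTproj f (TA (k := k) A))) :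
    ∃ (P : Piece f) (K₀ : Ideal (A ⊗[k] P.B)), IsFam n K₀ ∧ P.fam K₀ = I₀ ∧ E₀ ⊆ Set.range P.j := by
  obtain ⟨⟨hfin', -, -⟩, -⟩ := id hI₀
  haveI := hfin'
  haveI : Finite ((TA (k := k) A).left) := inferInstanceAs (Finite (PrimeSpectrum A))
  haveI : Finite I₀.subscheme := by
    refine Set.finite_univ_iff.1 ?_
    rw [← Set.preimage_univ (f := (I₀.subschemeι ≫ PicF.XTproj f (TA A)))]
    exact Scheme.Hom.finite_preimage _ Set.finite_univ
  obtain ⟨U, hU, hUE⟩ := hfin _ ((Set.finite_range (I₀.subschemeι ≫ pullback.fst f (TA (k := k) A).hom)).union hE₀)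
  obtain ⟨P, hP⟩ := exists_piece (f := f) U hU
  obtain ⟨K₀, hK₀, hK₀e⟩ := P.exists_fam I₀ hI₀ (by
    rintro _ ⟨w, rfl⟩
    rw [P.mem_range_μ', hP]
    exact hUE (Or.inl ⟨w, by rw [Scheme.Hom.comp_apply]⟩))
  exact ⟨P, K₀, hK₀, hK₀e, fun y hy => hP ▸ hUE (Or.inr hy)⟩

theorem exists_stalk_lift {X : Scheme.{u}} {A : Type u} [CommRing A] [IsLocalRing A] (I : Ideal A)
    [IsLocalRing (A ⧸ I)] (hI : I ≠ ⊤) (h : X) (g₀ : X.presheaf.stalk h →+* A ⧸ I) [IsLocalHom g₀]
    (y : Spec (CommRingCat.of A) ⟶ X)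
    (hy : Spec.map (CommRingCat.ofHom (Ideal.Quotient.mk I)) ≫ y =
      Spec.map (CommRingCat.ofHom g₀) ≫ X.fromSpecStalk h) :
    ∃ g : X.presheaf.stalk h ⟶ CommRingCat.of A, Spec.map g ≫ X.fromSpecStalk h = y ∧
      (Ideal.Quotient.mk I).comp g.hom = g₀ := by
  haveI : Nontrivial (A ⧸ I) := Ideal.Quotient.nontrivial_iff.2 hI
  haveI : IsLocalHom (Ideal.Quotient.mk I) := IsLocalHom.of_surjective _ Ideal.Quotient.mk_surjective
  have hyc : y (closedPoint A) = h := by
    have h1 := congrArg (fun ψ : Spec (CommRingCat.of (A ⧸ I)) ⟶ X => ψ (closedPoint (A ⧸ I))) hy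
    simp only [Scheme.Hom.comp_apply] at h1
    erw [Spec_closedPoint, Spec_closedPoint, Scheme.fromSpecStalk_closedPoint] at h1
    exact h1
  obtain ⟨g, hg⟩ := exists_stalk_hom (A := CommRingCat.of A) y h hyc
  refine ⟨g, hg, ?_⟩
  have h1 : g ≫ CommRingCat.ofHom (Ideal.Quotient.mk I) = CommRingCat.ofHom g₀ := by
    apply Spec.map_injective
    rw [← cancel_mono (X.fromSpecStalk h), Spec.map_comp, Category.assoc, hg]
    exact hy
  exact congrArg CommRingCat.Hom.hom h1

variable {n : ℕ} {H : Over (Spec (CommRingCat.of k))} {Z : HilbD.Obj f n H}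

/-- Smoothness at a rational point. -/
theorem exists_smooth_nhd [IsAlgClosed k] [IsSeparated f] [LocallyOfFiniteType f] [LocallyOfFiniteType H.hom]
    (hH : HilbD.IsUniversal f n H Z) (hfin : ∀ E : Set Y, E.Finite → ∃ U : Y.Opens, IsAffineOpen U ∧ E ⊆ U)
    (hreg : ∀ y : Y, IsClosed ({y} : Set Y) → IsRegularLocalRing (Y.presheaf.stalk y) ∧
      ringKrullDim (Y.presheaf.stalk y) = 2) (x : TA (k := k) k ⟶ H) :
    ∃ U : H.left.Opens, x.left p₀ ∈ U ∧ Smooth (U.ι ≫ H.hom) := by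
  haveI : IsLocallyNoetherian (Spec (CommRingCat.of k)) := inferInstance
  refine (Groth.Agent.S2793.result H.hom (x.left p₀)).2 ?_
  intro A' _ _ _ hA _ I hI hIm g₀ hcomp hm hres
  let h : H.left := x.left p₀
  obtain ⟨τ, hτ⟩ : ∃ τ : CommRingCat.of k ⟶ (Spec (CommRingCat.of k)).presheaf.stalk (H.hom h),
      Spec.map τ = (Spec (CommRingCat.of k)).fromSpecStalk (H.hom h) := ⟨Spec.preimage _, Spec.map_preimage _⟩
  let φ : k →+* A' := hA.comp τ.hom
  letI : Algebra k A' := φ.toAlgebra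
  haveI : Nontrivial (A' ⧸ I) := Ideal.Quotient.nontrivial_iff.2 hI
  haveI : IsLocalRing (A' ⧸ I) := IsLocalRing.of_surjective' _ Ideal.Quotient.mk_surjective
  have hmax := map_maximalIdeal I hI
  haveI hg₀loc : IsLocalHom g₀ := by
    refine ((IsLocalRing.local_hom_TFAE g₀).out 1 0).1 ?_
    rintro _ ⟨b, hb, rfl⟩
    exact hmax ▸ hm b hb
  -- the residue field of the point
  obtain ⟨χ, hχ⟩ : ∃ χ : H.left.presheaf.stalk h ⟶ CommRingCat.of k, Spec.map χ ≫ H.left.fromSpecStalk h = x.left :=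
    exists_stalk_hom (A := CommRingCat.of k) x.left h rfl
  have hχk : τ ≫ H.hom.stalkMap h ≫ χ = 𝟙 _ := by
    apply Spec.map_injective
    rw [Spec.map_comp, Spec.map_comp, hτ, Category.assoc, Scheme.SpecMap_stalkMap_fromSpecStalk,
      reassoc_of% hχ, Over.w x, TA_hom_eq, Spec.map_id]
    rfl
  let κ : k →+* H.left.presheaf.stalk h := (H.hom.stalkMap h).hom.comp τ.hom
  have hκ : ∀ c, χ.hom (κ c) = c := by
    have h2 := congrArg CommRingCat.Hom.hom hχk
    rw [CommRingCat.hom_comp, CommRingCat.hom_comp, CommRingCat.hom_id] at h2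
    exact RingHom.congr_fun h2
  have hgκ : ∀ c, g₀ (κ c) = Ideal.Quotient.mk I (algebraMap k A' c) := fun c =>
    RingHom.congr_fun hcomp (τ.hom c)
  obtain ⟨π⟩ := exists_residue (k := k) I hI χ.hom κ hκ g₀ hgκ hm hres
  -- the family to be lifted
  have hx₀w : (Spec.map (CommRingCat.ofHom g₀) ≫ H.left.fromSpecStalk h) ≫ H.hom =
      (TA (k := k) (A' ⧸ I)).hom := by
    rw [Category.assoc, ← Scheme.SpecMap_stalkMap_fromSpecStalk, ← hτ, ← Spec.map_comp, ← Spec.map_comp]
    show _ = Spec.map (CommRingCat.ofHom (algebraMap k (A' ⧸ I))) ≫ 𝟙 _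
    rw [Category.comp_id]
    refine congrArg Spec.map (CommRingCat.hom_ext (RingHom.ext fun c => ?_))
    exact hgκ c
  let x₀ : TA (k := k) (A' ⧸ I) ⟶ H := Over.homMk (Spec.map (CommRingCat.ofHom g₀) ≫ H.left.fromSpecStalk h) hx₀w
  let I₀ := HilbD.pull f x₀ Z.1
  have hI₀ := isFinLocFreeOfDeg_pull f x₀ Z.1 Z.2
  obtain ⟨P, K₀, hK₀, hK₀e, -⟩ := exists_piece_fam hfin Set.finite_empty I₀ hI₀
  have hregB : ∀ (p : Ideal P.B) [p.IsMaximal], IsRegularLocalRing (Localization.AtPrime p) ∧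
      ringKrullDim (Localization.AtPrime p) = 2 := by
    intro p hp
    obtain ⟨e⟩ := exists_ringEquiv_stalk P p
    obtain ⟨h1, h2⟩ := hreg _ (isClosed_piece_point P p)
    haveI := h1
    exact ⟨IsRegularLocalRing.of_ringEquiv e, (ringKrullDim_eq_of_ringEquiv e).symm.trans h2⟩
  obtain ⟨K, hK, hKK⟩ := exists_lift_family π I hI hregB hK₀
  let y : TA (k := k) A' ⟶ H := toH hH P hK
  have hy : Tmap (Ideal.Quotient.mkₐ k I) ≫ y = x₀ := by
    rw [toH_map]
    refine hom_ext_of_isUniversal f hH _ _ ?_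
    rw [pull_toH, hKK, hK₀e]
  have hyl : Spec.map (CommRingCat.ofHom (Ideal.Quotient.mk I)) ≫ y.left =
      Spec.map (CommRingCat.ofHom g₀) ≫ H.left.fromSpecStalk h := by
    have := congrArg CommaMorphism.left hy
    exact this
  obtain ⟨g, hg, hgI⟩ := exists_stalk_lift I hI h g₀ y.left hyl
  refine ⟨g.hom, ?_, hgI⟩
  have h1 : H.hom.stalkMap h ≫ g = CommRingCat.ofHom hA := by
    apply Spec.map_injective
    rw [← cancel_mono ((Spec (CommRingCat.of k)).fromSpecStalk (H.hom h)), Spec.map_comp, Category.assoc,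
      Scheme.SpecMap_stalkMap_fromSpecStalk, reassoc_of% hg, ← hτ, ← Spec.map_comp]
    refine (Over.w y).trans ?_
    show Spec.map _ ≫ 𝟙 _ = _
    rw [Category.comp_id]
    rfl
  exact congrArg CommRingCat.Hom.hom h1

/-- The Hilbert scheme of points of a regular surface is smooth. -/
theorem smooth_hilb [IsAlgClosed k] [IsSeparated f] [LocallyOfFiniteType f]
    (hH : HilbD.IsUniversal f n H Z) (hfin : ∀ E : Set Y, E.Finite → ∃ U : Y.Opens, IsAffineOpen U ∧ E ⊆ U)
    (hreg : ∀ y : Y, IsClosed ({y} : Set Y) → IsRegularLocalRing (Y.presheaf.stalk y) ∧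
      ringKrullDim (Y.presheaf.stalk y) = 2) : Smooth H.hom := by
  haveI := lft_of_isUniversal hH hfin
  haveI : JacobsonSpace H.left := LocallyOfFiniteType.jacobsonSpace H.hom
  have hex : ∀ z : closedPoints H.left, ∃ U : H.left.Opens, z.1 ∈ U ∧ Smooth (U.ι ≫ H.hom) := fun z => by
    obtain ⟨x, hx⟩ := exists_point (H := H) z.2
    exact hx ▸ exists_smooth_nhd hH hfin hreg x
  choose U hzU hU using hex
  have htop : iSup U = ⊤ := by
    rw [eq_top_iff]
    rintro w -
    by_contra hw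
    have hcl : IsClosed ((iSup U : H.left.Opens) : Set H.left)ᶜ := (iSup U).2.isClosed_compl
    obtain ⟨z, hz, hzc⟩ := nonempty_inter_closedPoints ⟨w, hw⟩ hcl.isLocallyClosed
    exact hz (TopologicalSpace.Opens.mem_iSup.2 ⟨⟨z, hzc⟩, hzU _⟩)
  exact (IsZariskiLocalAtSource.iff_of_iSup_eq_top (P := @Smooth) U htop).2 hU

end Groth.L11.Fogarty
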